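import Cfsg.Agent.H759.FusFactor
set_option linter.all false

-- part: H759/FusTransport
section
/-!
Transport of fusion systems along an injective homomorphism `f : Ω₁ →* Ω₂` of the ambient groups. `IsPush f X₁ X₂` says that
`X₂` (over `f(T₁)`) is the system `X₁` (over `T₁`) read through `f`. All the notions of the theory agree for `X₁` and `X₂`.
-/

set_option autoImplicit false

namespace Cfsg.Agent.H759

open Cfsg Cfsg.FusionSystem

section push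

variable {Ω₁ Ω₂ : Type*} [Group Ω₁] [Group Ω₂] {f : Ω₁ →* Ω₂} (hf : Function.Injective f)
include hf

/-- The isomorphism of `P` onto its image. -/
noncomputable def eqv (P : Subgroup Ω₁) : P ≃* P.map f := P.equivMapOfInjective f hf

@[simp] theorem coe_eqv (P : Subgroup Ω₁) (x : P) : ((eqv hf P x : P.map f) : Ω₂) = f x := rfl

theorem eqv_symm_apply (P : Subgroup Ω₁) (x : P) (h : f x ∈ P.map f) :
    (eqv hf P).symm ⟨f x, h⟩ = x := by
  rw [MulEquiv.symm_apply_eq]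
  exact Subtype.ext rfl

/-- The homomorphism `f φ f⁻¹` on `f(P)`. -/
noncomputable def cb {P : Subgroup Ω₁} (φ : P →* Ω₁) : P.map f →* Ω₂ :=
  f.comp (φ.comp (eqv hf P).symm.toMonoidHom)

theorem cb_apply {P : Subgroup Ω₁} (φ : P →* Ω₁) (x : P) (h : f x ∈ P.map f) :
    cb hf φ ⟨f x, h⟩ = f (φ x) := by
  show f (φ ((eqv hf P).symm ⟨f x, h⟩)) = _
  rw [eqv_symm_apply]

theorem cb_eqv {P : Subgroup Ω₁} (φ : P →* Ω₁) (x : P) : cb hf φ (eqv hf P x) = f (φ x) :=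
  cb_apply hf φ x _

theorem cb_ext {P : Subgroup Ω₁} {φ : P →* Ω₁} {φ' : P.map f →* Ω₂}
    (h : ∀ x : P, φ' (eqv hf P x) = f (φ x)) : φ' = cb hf φ := by
  ext y
  obtain ⟨x, rfl⟩ := (eqv hf P).surjective y
  rw [h, cb_eqv]

theorem exists_eq_cb {P : Subgroup Ω₁} (φ' : P.map f →* Ω₂) (h : ∀ y, φ' y ∈ f.range) :
    ∃ φ : P →* Ω₁, φ' = cb hf φ := by
  let g : Ω₁ ≃* f.range := MonoidHom.ofInjective hf
  refine ⟨(g.symm.toMonoidHom.comp (φ'.codRestrict f.range h)).comp (eqv hf P).toMonoidHom,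
    cb_ext hf (fun x => ?_)⟩
  show φ' (eqv hf P x) = f (g.symm ⟨φ' (eqv hf P x), _⟩)
  have h1 := congrArg Subtype.val (g.apply_symm_apply ⟨φ' (eqv hf P x), h _⟩)
  exact h1.symm

omit hf in
theorem exists_eq_map {P' : Subgroup Ω₂} (h : P' ≤ f.range) : ∃ P : Subgroup Ω₁, P' = P.map f :=
  ⟨P'.comap f, (Subgroup.map_comap_eq_self h).symm⟩

theorem cb_injective_iff {P : Subgroup Ω₁} {φ : P →* Ω₁} :
    Function.Injective (cb hf φ) ↔ Function.Injective φ := by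
  constructor
  · intro h a b hab
    have h1 : cb hf φ (eqv hf P a) = cb hf φ (eqv hf P b) := by rw [cb_eqv, cb_eqv, hab]
    exact (eqv hf P).injective (h h1)
  · intro h
    exact hf.comp (h.comp (eqv hf P).symm.injective)

theorem cb_range {P : Subgroup Ω₁} (φ : P →* Ω₁) : (cb hf φ).range = φ.range.map f := by
  ext y
  constructor
  · rintro ⟨z, rfl⟩
    obtain ⟨x, rfl⟩ := (eqv hf P).surjective z
    rw [cb_eqv]
    exact ⟨φ x, ⟨x, rfl⟩, rfl⟩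
  · rintro ⟨_, ⟨x, rfl⟩, rfl⟩
    exact ⟨eqv hf P x, cb_eqv hf φ x⟩

theorem map_mem_map {P : Subgroup Ω₁} (x : Ω₁) : f x ∈ P.map f ↔ x ∈ P := by
  constructor
  · rintro ⟨y, hy, hyx⟩
    rw [← hf hyx]; exact hy
  · intro h; exact ⟨x, h, rfl⟩

theorem map_le_map {P Q : Subgroup Ω₁} : P.map f ≤ Q.map f ↔ P ≤ Q := by
  constructor
  · intro h x hx
    exact (map_mem_map hf x).1 (h ((map_mem_map hf x).2 hx))
  · exact fun h => Subgroup.map_mono h

theorem map_inj {P Q : Subgroup Ω₁} : P.map f = Q.map f ↔ P = Q :=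
  ⟨fun h => le_antisymm ((map_le_map hf).1 h.le) ((map_le_map hf).1 h.ge), fun h => by rw [h]⟩

theorem card_map (P : Subgroup Ω₁) : Nat.card (P.map f) = Nat.card P :=
  (Nat.card_congr (eqv hf P).toEquiv).symm

theorem map_mem_normalizer {P : Subgroup Ω₁} (x : Ω₁) :
    f x ∈ Subgroup.normalizer ((P.map f : Subgroup Ω₂) : Set Ω₂) ↔
      x ∈ Subgroup.normalizer (P : Set Ω₁) := by
  rw [Subgroup.mem_normalizer_iff, Subgroup.mem_normalizer_iff]
  constructor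
  · intro h y
    have h1 := h (f y)
    rw [← map_inv, ← map_mul, ← map_mul, map_mem_map hf, map_mem_map hf] at h1
    exact h1
  · intro h y
    constructor
    · rintro ⟨z, hz, rfl⟩
      rw [← map_inv, ← map_mul, ← map_mul, map_mem_map hf]
      exact (h z).1 hz
    · rintro ⟨z, hz, hzy⟩
      have h1 : y = f (x⁻¹ * z * x) := by
        rw [map_mul, map_mul, map_inv, hzy]; group
      rw [h1, map_mem_map hf]
      rw [h]
      have h2 : x * (x⁻¹ * z * x) * x⁻¹ = z := by group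
      rw [h2]; exact hz

theorem map_mem_centralizer {P : Subgroup Ω₁} (x : Ω₁) :
    f x ∈ Subgroup.centralizer ((P.map f : Subgroup Ω₂) : Set Ω₂) ↔
      x ∈ Subgroup.centralizer (P : Set Ω₁) := by
  rw [Subgroup.mem_centralizer_iff, Subgroup.mem_centralizer_iff]
  constructor
  · intro h y hy
    have h1 := h (f y) ⟨y, hy, rfl⟩
    rw [← map_mul, ← map_mul] at h1
    exact hf h1
  · rintro h _ ⟨y, hy, rfl⟩
    rw [← map_mul, ← map_mul, h y hy]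

theorem normalizerIn_map (S P : Subgroup Ω₁) :
    normalizerIn (S.map f) (P.map f) = (normalizerIn S P).map f := by
  ext y
  constructor
  · rintro ⟨⟨x, hx, rfl⟩, hy⟩
    exact ⟨x, ⟨hx, (map_mem_normalizer hf x).1 hy⟩, rfl⟩
  · rintro ⟨x, ⟨hx, hx'⟩, rfl⟩
    exact ⟨⟨x, hx, rfl⟩, (map_mem_normalizer hf x).2 hx'⟩

theorem centralizerIn_map (S P : Subgroup Ω₁) :
    centralizerIn (S.map f) (P.map f) = (centralizerIn S P).map f := by
  ext y
  constructor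
  · rintro ⟨⟨x, hx, rfl⟩, hy⟩
    exact ⟨x, ⟨hx, (map_mem_centralizer hf x).1 hy⟩, rfl⟩
  · rintro ⟨x, ⟨hx, hx'⟩, rfl⟩
    exact ⟨⟨x, hx, rfl⟩, (map_mem_centralizer hf x).2 hx'⟩

/-- Conjugation of an automorphism of `P` to one of `f(P)`. -/
noncomputable def ca (P : Subgroup Ω₁) : MulAut P ≃* MulAut (P.map f) := MulAut.congr (eqv hf P)

theorem ca_apply (P : Subgroup Ω₁) (α : MulAut P) (x : P) :
    ca hf P α (eqv hf P x) = eqv hf P (α x) := by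
  show eqv hf P (α ((eqv hf P).symm (eqv hf P x))) = _
  rw [MulEquiv.symm_apply_apply]

theorem coe_ca_apply (P : Subgroup Ω₁) (α : MulAut P) (x : P) :
    ((ca hf P α (eqv hf P x) : P.map f) : Ω₂) = f (α x : P) := by
  rw [ca_apply]; rfl

theorem cb_subtype_comp (P : Subgroup Ω₁) (α : MulAut P) :
    (P.map f).subtype.comp (ca hf P α).toMonoidHom = cb hf (P.subtype.comp α.toMonoidHom) := by
  apply cb_ext
  intro x
  exact coe_ca_apply hf P α x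

theorem autInducedBy_map (K P : Subgroup Ω₁) :
    autInducedBy (K.map f) (P.map f) = (autInducedBy K P).map (ca hf P).toMonoidHom := by
  ext β
  rw [mem_autInducedBy]
  constructor
  · rintro ⟨_, ⟨g, hg, rfl⟩, h⟩
    refine ⟨(ca hf P).symm β, mem_autInducedBy.2 ⟨g, hg, fun x => ?_⟩, ?_⟩
    · apply hf
      have h1 := coe_ca_apply hf P ((ca hf P).symm β) x
      rw [MulEquiv.apply_symm_apply] at h1
      rw [← h1, h]
      rw [coe_eqv, ← map_inv, ← map_mul, ← map_mul]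
    · exact (ca hf P).apply_symm_apply β
  · rintro ⟨α, hα, rfl⟩
    obtain ⟨g, hg, h⟩ := mem_autInducedBy.1 hα
    refine ⟨f g, ⟨g, hg, rfl⟩, fun y => ?_⟩
    obtain ⟨x, rfl⟩ := (eqv hf P).surjective y
    have h1 := coe_ca_apply hf P α x
    show ((ca hf P α (eqv hf P x) : P.map f) : Ω₂) = _
    rw [h1, h, map_mul, map_mul, map_inv]
    rfl

theorem extender_map {S P : Subgroup Ω₁} {φ : P →* Ω₁} :
    extender (S.map f) (P.map f) (cb hf φ) = (extender S P φ).map f := by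
  ext y
  rw [mem_extender]
  constructor
  · rintro ⟨⟨g, hg, rfl⟩, hn, _, ⟨h, hh, rfl⟩, hy⟩
    refine ⟨g, mem_extender.2 ⟨hg, (map_mem_normalizer hf g).1 hn, h, hh, fun x hx => ?_⟩, rfl⟩
    apply hf
    have hx' : f g * ((eqv hf P x : P.map f) : Ω₂) * (f g)⁻¹ ∈ P.map f := by
      rw [coe_eqv, ← map_inv, ← map_mul, ← map_mul, map_mem_map hf]; exact hx
    have h1 := hy (eqv hf P x) hx'
    rw [cb_eqv] at h1
    have h2 : (⟨f g * ((eqv hf P x : P.map f) : Ω₂) * (f g)⁻¹, hx'⟩ : P.map f) =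
        eqv hf P ⟨g * x * g⁻¹, hx⟩ := Subtype.ext (by
          show f g * f x * (f g)⁻¹ = f (g * x * g⁻¹)
          rw [map_mul, map_mul, map_inv])
    rw [h2, cb_eqv] at h1
    rw [h1, ← map_inv, ← map_mul, ← map_mul]
  · rintro ⟨g, hg, rfl⟩
    obtain ⟨hgS, hn, h, hh, hx⟩ := mem_extender.1 hg
    refine ⟨⟨g, hgS, rfl⟩, (map_mem_normalizer hf g).2 hn, f h, ⟨h, hh, rfl⟩, fun y hy => ?_⟩
    obtain ⟨x, rfl⟩ := (eqv hf P).surjective y
    have hx' : g * x * g⁻¹ ∈ P := by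
      rw [coe_eqv, ← map_inv, ← map_mul, ← map_mul, map_mem_map hf] at hy; exact hy
    have h2 : (⟨f g * ((eqv hf P x : P.map f) : Ω₂) * (f g)⁻¹, hy⟩ : P.map f) =
        eqv hf P ⟨g * x * g⁻¹, hx'⟩ := Subtype.ext (by
          show f g * f x * (f g)⁻¹ = f (g * x * g⁻¹)
          rw [map_mul, map_mul, map_inv])
    rw [h2, cb_eqv, cb_eqv, hx x hx', map_mul, map_mul, map_inv]

/-- `X₂` is `X₁` read through `f`. -/
structure IsPush {T₁ : Subgroup Ω₁} {T₂ : Subgroup Ω₂} (hf : Function.Injective f)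
    (X₁ : FusionSystem T₁) (X₂ : FusionSystem T₂) : Prop where
  carrier : T₂ = T₁.map f
  hom : ∀ (P : Subgroup Ω₁) (φ : P →* Ω₁), cb hf φ ∈ X₂.Hom (P.map f) ↔ φ ∈ X₁.Hom P

end push

section exist

variable {Ω₁ Ω₂ : Type*} [Group Ω₁] [Group Ω₂] {f : Ω₁ →* Ω₂} (hf : Function.Injective f)
include hf

theorem mem_hom_of_cb {T₂ : Subgroup Ω₂} (X₂ : FusionSystem T₂) {P : Subgroup Ω₁} {φ' : P.map f →* Ω₂}
    {φ : P →* Ω₁} (h : cb hf φ ∈ X₂.Hom (P.map f)) (he : ∀ x : P, φ' (eqv hf P x) = f (φ x)) :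
    φ' ∈ X₂.Hom (P.map f) := by
  rw [cb_ext hf he]; exact h

/-- Pull back of a system along `f`. -/
theorem exists_pull {T₁ : Subgroup Ω₁} (X₂ : FusionSystem (T₁.map f)) :
    ∃ X₁ : FusionSystem T₁, IsPush hf X₁ X₂ := by
  refine ⟨{ Hom := fun P => {φ | cb hf φ ∈ X₂.Hom (P.map f)}
            le_of_mem := ?_
            injective_of_mem := ?_
            conj_mem := ?_
            comp_mem := ?_
            inv_mem := ?_ }, rfl, fun P φ => Iff.rfl⟩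
  · intro P φ hφ
    obtain ⟨h1, h2⟩ := X₂.le_of_mem hφ
    refine ⟨(map_le_map hf).1 h1, fun x => ?_⟩
    have := h2 (eqv hf P x)
    rwa [cb_eqv, map_mem_map hf] at this
  · intro P φ hφ
    exact (cb_injective_iff hf).1 (X₂.injective_of_mem hφ)
  · intro P g hP hg
    have h1 := X₂.conj_mem (g := f g) ((map_le_map hf).2 hP) ((map_mem_map hf g).2 hg)
    have h2 : conjHom (P.map f) (f g) = cb hf (conjHom P g) := by
      apply cb_ext
      intro x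
      show f g * f x * (f g)⁻¹ = f (g * x * g⁻¹)
      rw [map_mul, map_mul, map_inv]
    rw [h2] at h1
    exact h1
  · intro P Q φ ψ hφ hψ h
    refine comp_mem' X₂ hφ hψ (fun y => ?_)
    obtain ⟨x, rfl⟩ := (eqv hf P).surjective y
    rw [cb_eqv, cb_eqv]
    refine ⟨(map_mem_map hf _).2 (h x), ?_⟩
    show f (ψ ⟨φ x, _⟩) = _
    have h1 : (⟨f (φ x), (map_mem_map hf _).2 (h x)⟩ : Q.map f) = eqv hf Q ⟨φ x, h x⟩ :=
      Subtype.ext rfl
    rw [h1, cb_eqv]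
  · intro P φ hφ
    have h1 : φ.range.map f ≤ (cb hf φ).range := (cb_range hf φ).ge
    obtain ⟨ψ', hψ', h2⟩ := exists_inv X₂ hφ h1
    obtain ⟨ψ, rfl⟩ := exists_eq_cb hf ψ' (by
      intro y
      obtain ⟨z, hz⟩ := h1 y.2
      obtain ⟨x, rfl⟩ := (eqv hf P).surjective z
      have h3 := h2 (eqv hf P x) (by rw [hz]; exact y.2)
      have h4 : (⟨cb hf φ (eqv hf P x), by rw [hz]; exact y.2⟩ : φ.range.map f) = y :=
        Subtype.ext hz
      rw [h4] at h3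
      rw [h3]
      exact ⟨x, rfl⟩)
    refine ⟨ψ, hψ', fun x => ?_⟩
    apply hf
    have h3 : cb hf φ (eqv hf P x) ∈ φ.range.map f := by
      rw [cb_eqv, map_mem_map hf]; exact ⟨x, rfl⟩
    have h4 := h2 (eqv hf P x) h3
    have h5 : (⟨cb hf φ (eqv hf P x), h3⟩ : φ.range.map f) = eqv hf φ.range ⟨φ x, ⟨x, rfl⟩⟩ :=
      Subtype.ext (cb_eqv hf φ x)
    rw [h5, cb_eqv] at h4
    exact h4

/-- Push forward of a system along `f`. -/
theorem exists_push {T₁ : Subgroup Ω₁} (X₁ : FusionSystem T₁) :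
    ∃ X₂ : FusionSystem (T₁.map f), IsPush hf X₁ X₂ := by
  have hkey : ∀ (P : Subgroup Ω₁) (φ : P →* Ω₁) (Q : Subgroup Ω₁) (ψ : Q →* Ω₁),
      P.map f = Q.map f → (∀ (x : Ω₁) (hx : x ∈ P) (hx' : x ∈ Q), φ ⟨x, hx⟩ = ψ ⟨x, hx'⟩) →
      ψ ∈ X₁.Hom Q → φ ∈ X₁.Hom P := by
    intro P φ Q ψ hPQ he hψ
    have h1 := (map_inj hf).1 hPQ
    subst h1
    exact mem_congr X₁ hψ (fun x => he x x.2 x.2)
  refine ⟨{ Hom := fun P' => {φ' | ∃ (P : Subgroup Ω₁) (φ : P →* Ω₁), φ ∈ X₁.Hom P ∧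
              P' = P.map f ∧ ∀ (x : P) (h : f x ∈ P'), φ' ⟨f x, h⟩ = f (φ x)}
            le_of_mem := ?_
            injective_of_mem := ?_
            conj_mem := ?_
            comp_mem := ?_
            inv_mem := ?_ }, rfl, fun P φ => ?_⟩
  · rintro _ φ' ⟨P, φ, hφ, rfl, h⟩
    obtain rfl : φ' = cb hf φ := cb_ext hf (fun x => h x _)
    refine ⟨(map_le_map hf).2 (X₁.le_of_mem hφ).1, fun y => ?_⟩
    obtain ⟨x, rfl⟩ := (eqv hf P).surjective y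
    rw [cb_eqv, map_mem_map hf]
    exact (X₁.le_of_mem hφ).2 x
  · rintro _ φ' ⟨P, φ, hφ, rfl, h⟩
    obtain rfl : φ' = cb hf φ := cb_ext hf (fun x => h x _)
    exact (cb_injective_iff hf).2 (X₁.injective_of_mem hφ)
  · rintro P' _ hP' ⟨g, hg, rfl⟩
    obtain ⟨P, rfl⟩ := exists_eq_map (hP'.trans (Subgroup.map_le_range f T₁))
    refine ⟨P, conjHom P g, X₁.conj_mem ((map_le_map hf).1 hP') hg, rfl, fun x h => ?_⟩
    show f g * f x * (f g)⁻¹ = f (g * x * g⁻¹)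
    rw [map_mul, map_mul, map_inv]
  · rintro _ _ φ' ψ' ⟨P, φ, hφ, rfl, h1⟩ ⟨Q, ψ, hψ, rfl, h2⟩ h
    obtain rfl : φ' = cb hf φ := cb_ext hf (fun x => h1 x _)
    have h3 : ∀ x : P, φ x ∈ Q := by
      intro x
      have := h (eqv hf P x)
      rwa [cb_eqv, map_mem_map hf] at this
    refine ⟨P, ψ.comp (φ.codRestrict Q h3), X₁.comp_mem hφ hψ h3, rfl, fun x hx => ?_⟩
    show ψ' ⟨cb hf φ ⟨f x, hx⟩, _⟩ = f (ψ ⟨φ x, h3 x⟩)
    rw [← h2 ⟨φ x, h3 x⟩ ((map_mem_map hf _).2 (h3 x))]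
    congr 1
    exact Subtype.ext (cb_apply hf φ x hx)
  · rintro _ φ' ⟨P, φ, hφ, rfl, h1⟩
    obtain rfl : φ' = cb hf φ := cb_ext hf (fun x => h1 x _)
    obtain ⟨ψ, hψ, h2⟩ := X₁.inv_mem hφ
    have hr : (cb hf φ).range = φ.range.map f := cb_range hf φ
    refine ⟨(cb hf ψ).comp (Subgroup.inclusion hr.le), ⟨φ.range, ψ, hψ, hr, fun x hx => ?_⟩,
      fun y => ?_⟩
    · exact cb_apply hf ψ x _
    · obtain ⟨x, rfl⟩ := (eqv hf P).surjective y
      show cb hf ψ ⟨cb hf φ (eqv hf P x), _⟩ = f x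
      rw [← h2 x]
      have h3 : f ((⟨φ x, ⟨x, rfl⟩⟩ : φ.range) : Ω₁) ∈ φ.range.map f := (map_mem_map hf _).2 ⟨x, rfl⟩
      rw [← cb_apply hf ψ ⟨φ x, ⟨x, rfl⟩⟩ h3]
      congr 1
      exact Subtype.ext (cb_eqv hf φ x)
  · constructor
    · rintro ⟨Q, ψ, hψ, hPQ, h⟩
      refine hkey P φ Q ψ hPQ (fun x hx hx' => ?_) hψ
      apply hf
      have h1 : f x ∈ P.map f := (map_mem_map hf x).2 hx
      rw [← h ⟨x, hx'⟩ h1, ← cb_apply hf φ ⟨x, hx⟩ h1]
    · intro hφ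
      exact ⟨P, φ, hφ, rfl, fun x h => cb_apply hf φ x h⟩

end exist

end Cfsg.Agent.H759
end

-- part: H759/FusTransportB
section
/-!
Transport of fusion systems, second part: saturation, strong closure, centre, hyperfocal subgroup, invariance, normality,
subnormality.
-/

set_option autoImplicit false

namespace Cfsg.Agent.H759

open Cfsg Cfsg.FusionSystem

section notions

variable {Ω₁ Ω₂ : Type*} [Group Ω₁] [Group Ω₂] {f : Ω₁ →* Ω₂} {hf : Function.Injective f}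
  {T₁ : Subgroup Ω₁} {T₂ : Subgroup Ω₂} {X₁ : FusionSystem T₁} {X₂ : FusionSystem T₂}

theorem IsPush.mem_range (h : IsPush hf X₁ X₂) {P' : Subgroup Ω₂} {φ' : P' →* Ω₂}
    (hφ' : φ' ∈ X₂.Hom P') (y : P') : φ' y ∈ f.range := by
  have h1 := (X₂.le_of_mem hφ').2 y
  rw [h.carrier] at h1
  exact Subgroup.map_le_range f T₁ h1

/-- Every map of `X₂` comes from `X₁`. -/
theorem IsPush.exists_of_mem (h : IsPush hf X₁ X₂) {P : Subgroup Ω₁} {φ' : P.map f →* Ω₂}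
    (hφ' : φ' ∈ X₂.Hom (P.map f)) : ∃ φ ∈ X₁.Hom P, φ' = cb hf φ := by
  obtain ⟨φ, rfl⟩ := exists_eq_cb hf φ' (h.mem_range hφ')
  exact ⟨φ, (h.hom P φ).1 hφ', rfl⟩

theorem IsPush.exists_source (h : IsPush hf X₁ X₂) {P' : Subgroup Ω₂} (hP' : P' ≤ T₂) :
    ∃ P : Subgroup Ω₁, P' = P.map f ∧ P ≤ T₁ := by
  rw [h.carrier] at hP'
  obtain ⟨P, rfl⟩ := exists_eq_map (hP'.trans (Subgroup.map_le_range f T₁))
  exact ⟨P, rfl, (map_le_map hf).1 hP'⟩

theorem IsPush.map_le_iff (h : IsPush hf X₁ X₂) {P : Subgroup Ω₁} : P.map f ≤ T₂ ↔ P ≤ T₁ := by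
  rw [h.carrier, map_le_map hf]

theorem IsPush.isConj_iff (h : IsPush hf X₁ X₂) {P Q : Subgroup Ω₁} :
    X₂.IsConj (P.map f) (Q.map f) ↔ X₁.IsConj P Q := by
  constructor
  · rintro ⟨φ', hφ', hr⟩
    obtain ⟨φ, hφ, rfl⟩ := h.exists_of_mem hφ'
    rw [cb_range, map_inj hf] at hr
    exact ⟨φ, hφ, hr⟩
  · rintro ⟨φ, hφ, rfl⟩
    exact ⟨cb hf φ, (h.hom P φ).2 hφ, cb_range hf φ⟩

theorem IsPush.autGroup_eq (h : IsPush hf X₁ X₂) (P : Subgroup Ω₁) :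
    X₂.autGroup (P.map f) = (X₁.autGroup P).map (ca hf P).toMonoidHom := by
  unfold FusionSystem.autGroup
  rw [MonoidHom.map_closure]
  congr 1
  ext β
  constructor
  · intro hβ
    refine ⟨(ca hf P).symm β, ?_, (ca hf P).apply_symm_apply β⟩
    rw [Set.mem_ofPred_eq, ← h.hom, ← cb_subtype_comp, MulEquiv.apply_symm_apply]
    exact hβ
  · rintro ⟨α, hα, rfl⟩
    rw [Set.mem_ofPred_eq, ← h.hom, ← cb_subtype_comp] at hα
    exact hα

theorem IsPush.mem_autGroup_iff (h : IsPush hf X₁ X₂) {P : Subgroup Ω₁} {α : MulAut P} :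
    ca hf P α ∈ X₂.autGroup (P.map f) ↔ α ∈ X₁.autGroup P := by
  rw [h.autGroup_eq]
  constructor
  · rintro ⟨β, hβ, he⟩
    have : β = α := (ca hf P).injective he
    rwa [← this]
  · intro hα
    exact ⟨α, hα, rfl⟩

/-- Sylow statements are transported by isomorphisms. -/
theorem sylow_transport {G H : Type*} [Group G] [Group H] [Finite G] (e : G ≃* H) {p : ℕ} [Fact p.Prime]
    (A B : Subgroup G) (hR : ∃ R : Sylow p A, (R : Subgroup A) = B.subgroupOf A) :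
    ∃ R : Sylow p (A.map e.toMonoidHom), (R : Subgroup (A.map e.toMonoidHom)) =
      (B.map e.toMonoidHom).subgroupOf (A.map e.toMonoidHom) := by
  obtain ⟨R, hR⟩ := hR
  let g : A ≃* A.map e.toMonoidHom := A.equivMapOfInjective e.toMonoidHom e.injective
  have hg : Function.Surjective g.toMonoidHom := g.surjective
  refine ⟨R.mapSurjective hg, ?_⟩
  rw [Sylow.coe_mapSurjective, hR]
  ext y
  constructor
  · rintro ⟨x, hx, rfl⟩
    exact Subgroup.mem_subgroupOf.2 ⟨x, hx, rfl⟩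
  · intro hy
    obtain ⟨b, hb, hby⟩ := Subgroup.mem_subgroupOf.1 hy
    obtain ⟨x, rfl⟩ := g.surjective y
    refine ⟨x, Subgroup.mem_subgroupOf.2 ?_, rfl⟩
    have h1 : b = x := e.injective hby
    rw [← h1]; exact hb

theorem finite_mulAut {G : Type*} [Group G] [Finite G] : Finite (MulAut G) :=
  Finite.of_injective (fun α : MulAut G => α.toEquiv) (fun a b h => by
    ext x; exact congrArg (fun e : G ≃ G => e x) h)

theorem IsPush.isFullyAutomized_iff [Finite T₁] (h : IsPush hf X₁ X₂) {p : ℕ} [Fact p.Prime]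
    {P : Subgroup Ω₁} : X₂.IsFullyAutomized p (P.map f) ↔ X₁.IsFullyAutomized p P := by
  constructor
  · rintro ⟨hP, hR⟩
    have hP1 := h.map_le_iff.1 hP
    have hfP : Finite P := Finite.of_injective _ (Subgroup.inclusion_injective hP1)
    have hfP2 : Finite (P.map f) := Finite.of_equiv _ (eqv hf P).toEquiv
    have := finite_mulAut (G := P.map f)
    refine ⟨hP1, ?_⟩
    have h1 := sylow_transport (ca hf P).symm _ _ hR
    have h2 : (X₂.autGroup (P.map f)).map (ca hf P).symm.toMonoidHom = X₁.autGroup P := by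
      rw [h.autGroup_eq, Subgroup.map_map]
      have : (ca hf P).symm.toMonoidHom.comp (ca hf P).toMonoidHom = MonoidHom.id _ := by
        ext x; simp
      rw [this, Subgroup.map_id]
    have h3 : (autInducedBy T₂ (P.map f)).map (ca hf P).symm.toMonoidHom = autInducedBy T₁ P := by
      rw [h.carrier, autInducedBy_map hf, Subgroup.map_map]
      have : (ca hf P).symm.toMonoidHom.comp (ca hf P).toMonoidHom = MonoidHom.id _ := by
        ext x; simp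
      rw [this, Subgroup.map_id]
    rw [h2, h3] at h1
    exact h1
  · rintro ⟨hP1, hR⟩
    have hfP : Finite P := Finite.of_injective _ (Subgroup.inclusion_injective hP1)
    have := finite_mulAut (G := P)
    refine ⟨h.map_le_iff.2 hP1, ?_⟩
    have h1 := sylow_transport (ca hf P) _ _ hR
    rw [← h.autGroup_eq, ← autInducedBy_map hf, ← h.carrier] at h1
    exact h1

theorem IsPush.isReceptive_iff (h : IsPush hf X₁ X₂) {Q : Subgroup Ω₁} :
    X₂.IsReceptive (Q.map f) ↔ X₁.IsReceptive Q := by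
  constructor
  · rintro ⟨hQ, hR⟩
    refine ⟨h.map_le_iff.1 hQ, fun P φ hφ hr => ?_⟩
    obtain ⟨ψ', hψ', he⟩ := hR (P.map f) (cb hf φ) ((h.hom P φ).2 hφ) (by rw [cb_range, hr])
    have h1 : extender T₂ (P.map f) (cb hf φ) = (extender T₁ P φ).map f := by
      rw [h.carrier, extender_map hf]
    have hle : (extender T₁ P φ).map f ≤ extender T₂ (P.map f) (cb hf φ) := h1.ge
    have hψ2 := res_mem_comp X₂ hψ' hle
    obtain ⟨ψ, hψ, hψe⟩ := h.exists_of_mem hψ2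
    refine ⟨ψ, hψ, fun x hP hN => ?_⟩
    apply hf
    have h2 : f x ∈ (extender T₁ P φ).map f := (map_mem_map hf x).2 hN
    have h3 := cb_apply hf ψ ⟨x, hN⟩ h2
    rw [← hψe] at h3
    rw [← h3]
    have h4 := he (f x) ((map_mem_map hf x).2 hP) (hle h2)
    rw [cb_apply hf φ ⟨x, hP⟩] at h4
    exact h4
  · rintro ⟨hQ, hR⟩
    refine ⟨h.map_le_iff.2 hQ, fun P' φ' hφ' hr => ?_⟩
    obtain ⟨P, rfl, hP⟩ := h.exists_source (X₂.le_of_mem hφ').1
    obtain ⟨φ, hφ, rfl⟩ := h.exists_of_mem hφ'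
    rw [cb_range, map_inj hf] at hr
    obtain ⟨ψ, hψ, he⟩ := hR P φ hφ hr
    have h1 : extender T₂ (P.map f) (cb hf φ) = (extender T₁ P φ).map f := by
      rw [h.carrier, extender_map hf]
    refine ⟨(cb hf ψ).comp (Subgroup.inclusion h1.le), res_mem_comp X₂ ((h.hom _ _).2 hψ) h1.le,
      fun y hy hy' => ?_⟩
    obtain ⟨x, hx, rfl⟩ := hy
    have hN : x ∈ extender T₁ P φ := by rw [h1] at hy'; exact (map_mem_map hf x).1 hy'
    have h2 := cb_apply hf ψ ⟨x, hN⟩ ((map_mem_map hf x).2 hN)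
    have h3 := cb_apply hf φ ⟨x, hx⟩ ((map_mem_map hf x).2 hx)
    exact (h2.trans (congrArg f (he x hx hN))).trans h3.symm

theorem IsPush.isSaturated_iff [Finite T₁] (h : IsPush hf X₁ X₂) {p : ℕ} [Fact p.Prime] :
    X₂.IsSaturated p ↔ X₁.IsSaturated p := by
  constructor
  · intro hs P hP
    obtain ⟨Q', hc, ha, hr⟩ := hs (P.map f) (h.map_le_iff.2 hP)
    obtain ⟨Q, rfl, hQ⟩ := h.exists_source ha.1
    exact ⟨Q, h.isConj_iff.1 hc, h.isFullyAutomized_iff.1 ha, h.isReceptive_iff.1 hr⟩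
  · intro hs P' hP'
    obtain ⟨P, rfl, hP⟩ := h.exists_source hP'
    obtain ⟨Q, hc, ha, hr⟩ := hs P hP
    exact ⟨Q.map f, h.isConj_iff.2 hc, h.isFullyAutomized_iff.2 ha, h.isReceptive_iff.2 hr⟩

theorem IsPush.stronglyClosed_iff (h : IsPush hf X₁ X₂) {P : Subgroup Ω₁} :
    X₂.StronglyClosed (P.map f) ↔ X₁.StronglyClosed P := by
  constructor
  · rintro ⟨hP, hs⟩
    refine ⟨h.map_le_iff.1 hP, fun R hR φ hφ x => ?_⟩
    have h1 := hs (R.map f) ((map_le_map hf).2 hR) (cb hf φ) ((h.hom R φ).2 hφ) (eqv hf R x)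
    rwa [cb_eqv, map_mem_map hf] at h1
  · rintro ⟨hP, hs⟩
    refine ⟨h.map_le_iff.2 hP, fun R' hR' φ' hφ' y => ?_⟩
    obtain ⟨R, rfl, hR⟩ := h.exists_source (X₂.le_of_mem hφ').1
    obtain ⟨φ, hφ, rfl⟩ := h.exists_of_mem hφ'
    obtain ⟨x, rfl⟩ := (eqv hf R).surjective y
    rw [cb_eqv, map_mem_map hf]
    exact hs R ((map_le_map hf).1 hR') φ hφ x

/-- The source `P ⊔ Q` and its image. -/
theorem IsPush.exists_ext_iff (h : IsPush hf X₁ X₂) {P Q : Subgroup Ω₁} {φ : P →* Ω₁}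
    (good : (↥(P ⊔ Q) →* Ω₁) → Prop) (good' : (↥(P.map f ⊔ Q.map f) →* Ω₂) → Prop)
    (hgood : ∀ (ψ : ↥(P ⊔ Q) →* Ω₁) (ψ' : ↥(P.map f ⊔ Q.map f) →* Ω₂),
      (∀ (x : Ω₁) (hx : x ∈ P ⊔ Q) (hx' : f x ∈ P.map f ⊔ Q.map f), ψ' ⟨f x, hx'⟩ = f (ψ ⟨x, hx⟩)) →
      (good' ψ' ↔ good ψ)) :
    (∃ ψ' ∈ X₂.Hom (P.map f ⊔ Q.map f),
      (∀ x : P.map f, ψ' (Subgroup.inclusion le_sup_left x) = cb hf φ x) ∧ good' ψ') ↔
    (∃ ψ ∈ X₁.Hom (P ⊔ Q), (∀ x : P, ψ (Subgroup.inclusion le_sup_left x) = φ x) ∧ good ψ) := by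
  have hsup : P.map f ⊔ Q.map f = (P ⊔ Q).map f := (Subgroup.map_sup P Q f).symm
  constructor
  · rintro ⟨ψ', hψ', h1, h2⟩
    have hψ2 := res_mem_comp X₂ hψ' hsup.ge
    obtain ⟨ψ, hψ, hψe⟩ := h.exists_of_mem hψ2
    have hval : ∀ (x : Ω₁) (hx : x ∈ P ⊔ Q) (hx' : f x ∈ P.map f ⊔ Q.map f),
        ψ' ⟨f x, hx'⟩ = f (ψ ⟨x, hx⟩) := by
      intro x hx hx'
      have h3 : f x ∈ (P ⊔ Q).map f := (map_mem_map hf x).2 hx
      rw [← cb_apply hf ψ ⟨x, hx⟩ h3, ← hψe]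
      rfl
    refine ⟨ψ, hψ, fun x => ?_, (hgood ψ ψ' hval).1 h2⟩
    apply hf
    have h3 : f x ∈ P.map f ⊔ Q.map f := (le_sup_left : P.map f ≤ P.map f ⊔ Q.map f) ⟨x, x.2, rfl⟩
    have h4 := hval x ((le_sup_left : P ≤ P ⊔ Q) x.2) h3
    have h5 := h1 (eqv hf P x)
    rw [cb_eqv] at h5
    rw [← h5]
    exact h4.symm
  · rintro ⟨ψ, hψ, h1, h2⟩
    refine ⟨(cb hf ψ).comp (Subgroup.inclusion hsup.le), res_mem_comp X₂ ((h.hom _ _).2 hψ) hsup.le,
      fun y => ?_, (hgood ψ _ ?_).2 h2⟩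
    · obtain ⟨x, rfl⟩ := (eqv hf P).surjective y
      rw [cb_eqv, ← h1 x]
      exact cb_apply hf ψ (Subgroup.inclusion le_sup_left x) _
    · intro x hx hx'
      exact cb_apply hf ψ ⟨x, hx⟩ _

theorem IsPush.isCentral_iff (h : IsPush hf X₁ X₂) {Q : Subgroup Ω₁} :
    X₂.IsCentral (Q.map f) ↔ X₁.IsCentral Q := by
  have hgood : ∀ (P : Subgroup Ω₁) (ψ : ↥(P ⊔ Q) →* Ω₁) (ψ' : ↥(P.map f ⊔ Q.map f) →* Ω₂),
      (∀ (x : Ω₁) (hx : x ∈ P ⊔ Q) (hx' : f x ∈ P.map f ⊔ Q.map f), ψ' ⟨f x, hx'⟩ = f (ψ ⟨x, hx⟩)) →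
      ((∀ x : Q.map f, ψ' (Subgroup.inclusion le_sup_right x) = x) ↔
        (∀ x : Q, ψ (Subgroup.inclusion le_sup_right x) = x)) := by
    intro P ψ ψ' hval
    constructor
    · intro h1 x
      apply hf
      have h3 : f x ∈ P.map f ⊔ Q.map f := (le_sup_right : Q.map f ≤ _) ⟨x, x.2, rfl⟩
      have h4 := hval x ((le_sup_right : Q ≤ P ⊔ Q) x.2) h3
      have h5 := h1 (eqv hf Q x)
      exact h4.symm.trans h5
    · intro h1 y
      obtain ⟨x, rfl⟩ := (eqv hf Q).surjective y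
      have h3 : f x ∈ P.map f ⊔ Q.map f := (le_sup_right : Q.map f ≤ _) ⟨x, x.2, rfl⟩
      have h4 := hval x ((le_sup_right : Q ≤ P ⊔ Q) x.2) h3
      have h5 := congrArg f (h1 x)
      exact h4.trans h5
  constructor
  · rintro ⟨hQ, hc⟩
    refine ⟨h.map_le_iff.1 hQ, fun P φ hφ => ?_⟩
    exact (h.exists_ext_iff _ _ (hgood P)).1 (hc _ _ ((h.hom P φ).2 hφ))
  · rintro ⟨hQ, hc⟩
    refine ⟨h.map_le_iff.2 hQ, fun P' φ' hφ' => ?_⟩
    obtain ⟨P, rfl, hP⟩ := h.exists_source (X₂.le_of_mem hφ').1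
    obtain ⟨φ, hφ, rfl⟩ := h.exists_of_mem hφ'
    exact (h.exists_ext_iff _ _ (hgood P)).2 (hc _ _ hφ)

theorem IsPush.isNormal_iff (h : IsPush hf X₁ X₂) {Q : Subgroup Ω₁} :
    X₂.IsNormal (Q.map f) ↔ X₁.IsNormal Q := by
  have hgood : ∀ (P : Subgroup Ω₁) (ψ : ↥(P ⊔ Q) →* Ω₁) (ψ' : ↥(P.map f ⊔ Q.map f) →* Ω₂),
      (∀ (x : Ω₁) (hx : x ∈ P ⊔ Q) (hx' : f x ∈ P.map f ⊔ Q.map f), ψ' ⟨f x, hx'⟩ = f (ψ ⟨x, hx⟩)) →
      ((((Q.map f).subgroupOf (P.map f ⊔ Q.map f)).map ψ' = Q.map f) ↔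
        (Q.subgroupOf (P ⊔ Q)).map ψ = Q) := by
    intro P ψ ψ' hval
    have h1 : ((Q.map f).subgroupOf (P.map f ⊔ Q.map f)).map ψ' =
        ((Q.subgroupOf (P ⊔ Q)).map ψ).map f := by
      ext z
      constructor
      · rintro ⟨⟨_, hy⟩, ⟨x, hx, rfl⟩, rfl⟩
        refine ⟨ψ ⟨x, (le_sup_right : Q ≤ P ⊔ Q) hx⟩, ⟨_, hx, rfl⟩, ?_⟩
        exact (hval x _ hy).symm
      · rintro ⟨_, ⟨⟨x, hx'⟩, hx, rfl⟩, rfl⟩
        have h3 : f x ∈ P.map f ⊔ Q.map f := (le_sup_right : Q.map f ≤ _) ⟨x, hx, rfl⟩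
        exact ⟨⟨f x, h3⟩, ⟨x, hx, rfl⟩, hval x hx' h3⟩
    rw [h1, map_inj hf]
  constructor
  · rintro ⟨hQ, hc⟩
    refine ⟨h.map_le_iff.1 hQ, fun P φ hφ => ?_⟩
    exact (h.exists_ext_iff _ _ (hgood P)).1 (hc _ _ ((h.hom P φ).2 hφ))
  · rintro ⟨hQ, hc⟩
    refine ⟨h.map_le_iff.2 hQ, fun P' φ' hφ' => ?_⟩
    obtain ⟨P, rfl, hP⟩ := h.exists_source (X₂.le_of_mem hφ').1
    obtain ⟨φ, hφ, rfl⟩ := h.exists_of_mem hφ'
    exact (h.exists_ext_iff _ _ (hgood P)).2 (hc _ _ hφ)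

theorem IsPush.center_eq (h : IsPush hf X₁ X₂) : X₂.center = X₁.center.map f := by
  unfold FusionSystem.center
  apply le_antisymm
  · refine sSup_le fun Q' hQ' => ?_
    obtain ⟨Q, rfl, hQ⟩ := h.exists_source hQ'.1
    exact Subgroup.map_mono (le_sSup (h.isCentral_iff.1 hQ'))
  · rw [Subgroup.map_le_iff_le_comap]
    refine sSup_le fun Q hQ => ?_
    rw [← Subgroup.map_le_iff_le_comap]
    exact le_sSup (h.isCentral_iff.2 hQ)

theorem IsPush.core_eq (h : IsPush hf X₁ X₂) : X₂.core = X₁.core.map f := by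
  unfold FusionSystem.core
  apply le_antisymm
  · refine sSup_le fun Q' hQ' => ?_
    obtain ⟨Q, rfl, hQ⟩ := h.exists_source hQ'.1
    exact Subgroup.map_mono (le_sSup (h.isNormal_iff.1 hQ'))
  · rw [Subgroup.map_le_iff_le_comap]
    refine sSup_le fun Q hQ => ?_
    rw [← Subgroup.map_le_iff_le_comap]
    exact le_sSup (h.isNormal_iff.2 hQ)

/-- `O^p` and isomorphisms. -/
theorem map_pResidual_subtype {G H : Type*} [Group G] [Group H] (e : G ≃* H) (p : ℕ) (A : Subgroup G)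
    (B : Subgroup H) (hB : B = A.map e.toMonoidHom) :
    (pResidual p B).map B.subtype = ((pResidual p A).map A.subtype).map e.toMonoidHom := by
  subst hB
  unfold pResidual
  rw [MonoidHom.map_closure, MonoidHom.map_closure, MonoidHom.map_closure]
  congr 1
  ext y
  constructor
  · rintro ⟨⟨_, x, hx, rfl⟩, hy, rfl⟩
    refine ⟨x, ⟨⟨x, hx⟩, ?_, rfl⟩, rfl⟩
    rw [Set.mem_ofPred_eq] at hy ⊢
    rw [← Subgroup.orderOf_coe] at hy ⊢
    have h1 : orderOf (e x) = orderOf x := MulEquiv.orderOf_eq e x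
    exact h1 ▸ hy
  · rintro ⟨_, ⟨⟨x, hx⟩, hy, rfl⟩, rfl⟩
    refine ⟨⟨e x, ⟨x, hx, rfl⟩⟩, ?_, rfl⟩
    rw [Set.mem_ofPred_eq] at hy ⊢
    rw [← Subgroup.orderOf_coe] at hy ⊢
    have h1 : orderOf (e x) = orderOf x := MulEquiv.orderOf_eq e x
    exact h1.symm ▸ hy

theorem mem_hyperfocal_gen {Ω : Type*} [Group Ω] {S : Subgroup Ω} {F : FusionSystem S} {p : ℕ} {y : Ω} :
    (∃ (P : Subgroup Ω) (α : F.autGroup P) (x : P), P ≤ S ∧ α ∈ pResidual p (F.autGroup P) ∧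
      y = (x : Ω)⁻¹ * ((α : MulAut P) x : P)) ↔
    (∃ (P : Subgroup Ω) (α : MulAut P) (x : P), P ≤ S ∧
      α ∈ (pResidual p (F.autGroup P)).map (F.autGroup P).subtype ∧ y = (x : Ω)⁻¹ * (α x : P)) := by
  constructor
  · rintro ⟨P, α, x, hP, hα, rfl⟩
    exact ⟨P, α, x, hP, ⟨α, hα, rfl⟩, rfl⟩
  · rintro ⟨P, _, x, hP, ⟨α, hα, rfl⟩, rfl⟩
    exact ⟨P, α, x, hP, hα, rfl⟩

theorem IsPush.hyperfocal_eq (h : IsPush hf X₁ X₂) (p : ℕ) :
    X₂.hyperfocalSubgroup p = (X₁.hyperfocalSubgroup p).map f := by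
  unfold FusionSystem.hyperfocalSubgroup
  rw [MonoidHom.map_closure]
  congr 1
  ext y
  rw [Set.mem_ofPred_eq, mem_hyperfocal_gen]
  have hres : ∀ P : Subgroup Ω₁, (pResidual p (X₂.autGroup (P.map f))).map
      (X₂.autGroup (P.map f)).subtype =
      ((pResidual p (X₁.autGroup P)).map (X₁.autGroup P).subtype).map (ca hf P).toMonoidHom :=
    fun P => map_pResidual_subtype (ca hf P) p _ _ (h.autGroup_eq P)
  constructor
  · rintro ⟨P', α', x', hP', hα', rfl⟩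
    obtain ⟨P, rfl, hP⟩ := h.exists_source hP'
    rw [hres] at hα'
    obtain ⟨α, hα, rfl⟩ := hα'
    obtain ⟨x, rfl⟩ := (eqv hf P).surjective x'
    refine ⟨(x : Ω₁)⁻¹ * (α x : P), ?_, ?_⟩
    · rw [Set.mem_ofPred_eq, mem_hyperfocal_gen]
      exact ⟨P, α, x, hP, hα, rfl⟩
    · rw [map_mul, map_inv]
      have h1 := coe_ca_apply hf P α x
      rw [← h1]; rfl
  · rintro ⟨z, hz, rfl⟩
    rw [Set.mem_ofPred_eq, mem_hyperfocal_gen] at hz
    obtain ⟨P, α, x, hP, hα, rfl⟩ := hz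
    refine ⟨P.map f, ca hf P α, eqv hf P x, h.map_le_iff.2 hP, ?_, ?_⟩
    · rw [hres]
      exact ⟨α, hα, rfl⟩
    · rw [coe_ca_apply, map_mul, map_inv]
      rfl

end notions

end Cfsg.Agent.H759
end

-- part: H759/FusTransportC
section
/-!
Transport of fusion systems, third part: subsystems, invariance, normality, subnormality, simplicity, quasisimplicity,
components.
-/

set_option autoImplicit false

namespace Cfsg.Agent.H759

open Cfsg Cfsg.FusionSystem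

section sub

variable {Ω₁ Ω₂ : Type*} [Group Ω₁] [Group Ω₂] {f : Ω₁ →* Ω₂} {hf : Function.Injective f}
  {S₁ T₁ : Subgroup Ω₁} {S₂ T₂ : Subgroup Ω₂} {X₁ : FusionSystem T₁} {X₂ : FusionSystem T₂}
  {F₁ : FusionSystem S₁} {F₂ : FusionSystem S₂}

theorem IsPush.isSubsystemOf_iff (h : IsPush hf X₁ X₂) (hF : IsPush hf F₁ F₂) :
    X₂.IsSubsystemOf F₂ ↔ X₁.IsSubsystemOf F₁ := by
  constructor
  · intro hs P φ hφ
    exact (hF.hom P φ).1 (hs _ ((h.hom P φ).2 hφ))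
  · intro hs P' φ' hφ'
    obtain ⟨P, rfl, hP⟩ := h.exists_source (X₂.le_of_mem hφ').1
    obtain ⟨φ, hφ, rfl⟩ := h.exists_of_mem hφ'
    exact (hF.hom P φ).2 (hs P hφ)

/-- Two push-forwards of one system have the same maps. -/
theorem IsPush.hom_eq {T₂' : Subgroup Ω₂} {X₂' : FusionSystem T₂'} (h : IsPush hf X₁ X₂)
    (h' : IsPush hf X₁ X₂') (P' : Subgroup Ω₂) : X₂.Hom P' = X₂'.Hom P' := by
  ext φ'
  constructor
  · intro hφ'
    obtain ⟨P, rfl, hP⟩ := h.exists_source (X₂.le_of_mem hφ').1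
    obtain ⟨φ, hφ, rfl⟩ := h.exists_of_mem hφ'
    exact (h'.hom P φ).2 hφ
  · intro hφ'
    obtain ⟨P, rfl, hP⟩ := h'.exists_source (X₂'.le_of_mem hφ').1
    obtain ⟨φ, hφ, rfl⟩ := h'.exists_of_mem hφ'
    exact (h.hom P φ).2 hφ

theorem fusionSystem_ext {Ω : Type*} [Group Ω] {S : Subgroup Ω} {F G : FusionSystem S}
    (h : ∀ P, F.Hom P = G.Hom P) : F = G := by
  cases F; cases G
  congr
  exact funext h

/-- image of a subgroup of `T` under an automorphism of `T` -/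
theorem image_map_eq (T P : Subgroup Ω₁) (α : MulAut T) :
    ((P.map f).subgroupOf (T.map f)).map ((T.map f).subtype.comp (ca hf T α).toMonoidHom) =
      ((P.subgroupOf T).map (T.subtype.comp α.toMonoidHom)).map f := by
  ext y
  constructor
  · rintro ⟨z, hz, rfl⟩
    obtain ⟨x, rfl⟩ := (eqv hf T).surjective z
    have hx : (x : Ω₁) ∈ P := (map_mem_map hf (x : Ω₁)).1 hz
    exact ⟨(α x : T), ⟨x, hx, rfl⟩, (coe_ca_apply hf T α x).symm⟩
  · rintro ⟨_, ⟨x, hx, rfl⟩, rfl⟩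
    refine ⟨eqv hf T x, ?_, coe_ca_apply hf T α x⟩
    exact (map_mem_map hf (x : Ω₁)).2 hx

theorem exists_ca {T : Subgroup Ω₁} (α' : MulAut (T.map f)) : ∃ α : MulAut T, α' = ca hf T α :=
  ⟨(ca hf T).symm α', ((ca hf T).apply_symm_apply α').symm⟩

theorem IsPush.isInvariantIn_iff (h : IsPush hf X₁ X₂) (hF : IsPush hf F₁ F₂) :
    X₂.IsInvariantIn F₂ ↔ X₁.IsInvariantIn F₁ := by
  have hT := h.carrier
  subst hT
  unfold FusionSystem.IsInvariantIn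
  refine and_congr (h.isSubsystemOf_iff hF) (and_congr hF.stronglyClosed_iff (and_congr ?_ ?_))
  · constructor
    · intro hinv P hPT φ hφ α hα
      obtain ⟨χ', hχ', he⟩ := hinv (P.map f) (Subgroup.map_mono hPT) (cb hf φ) ((h.hom P φ).2 hφ)
        (ca hf T₁ α) (hF.mem_autGroup_iff.2 hα)
      have himg := image_map_eq (hf := hf) T₁ P α
      have h1 := res_mem_comp X₂ hχ' himg.ge
      obtain ⟨χ, hχ, hχe⟩ := h.exists_of_mem h1
      refine ⟨χ, hχ, fun x hφx hαx => ?_⟩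
      apply hf
      have h2 : f ((α ⟨x, hPT x.2⟩ : T₁) : Ω₁) ∈
          ((P.subgroupOf T₁).map (T₁.subtype.comp α.toMonoidHom)).map f := ⟨_, hαx, rfl⟩
      have h20 := cb_apply hf χ ⟨_, hαx⟩ h2
      rw [← hχe] at h20
      refine h20.symm.trans ?_
      have h3 := he (eqv hf P x) (by rw [cb_eqv]; exact ⟨_, hφx, rfl⟩) (by
        have h4 : (⟨((eqv hf P x : P.map f) : Ω₂), Subgroup.map_mono hPT (eqv hf P x).2⟩ : T₁.map f) =
          eqv hf T₁ ⟨x, hPT x.2⟩ := Subtype.ext rfl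
        rw [h4, coe_ca_apply]
        exact himg.ge h2)
      have h4 : (⟨((eqv hf P x : P.map f) : Ω₂), Subgroup.map_mono hPT (eqv hf P x).2⟩ : T₁.map f) =
          eqv hf T₁ ⟨x, hPT x.2⟩ := Subtype.ext rfl
      have h5 : (⟨cb hf φ (eqv hf P x), by rw [cb_eqv]; exact ⟨_, hφx, rfl⟩⟩ : T₁.map f) =
          eqv hf T₁ ⟨φ x, hφx⟩ := Subtype.ext (cb_eqv hf φ x)
      rw [h5] at h3
      refine Eq.trans ?_ (h3.trans (coe_ca_apply hf T₁ α ⟨φ x, hφx⟩))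
      show χ' _ = χ' _
      congr 1
      apply Subtype.ext
      show f _ = ((ca hf T₁ α _ : T₁.map f) : Ω₂)
      rw [h4]
      exact (coe_ca_apply hf T₁ α _).symm
    · intro hinv P' hPT' φ' hφ' α' hα'
      obtain ⟨P, rfl, hPT⟩ := h.exists_source hPT'
      obtain ⟨φ, hφ, rfl⟩ := h.exists_of_mem hφ'
      obtain ⟨α, rfl⟩ := exists_ca (hf := hf) α'
      obtain ⟨χ, hχ, he⟩ := hinv P hPT φ hφ α (hF.mem_autGroup_iff.1 hα')
      have himg := image_map_eq (hf := hf) T₁ P α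
      refine ⟨(cb hf χ).comp (Subgroup.inclusion himg.le),
        res_mem_comp X₂ ((h.hom _ χ).2 hχ) himg.le, fun x' hφx hαx => ?_⟩
      obtain ⟨x, rfl⟩ := (eqv hf P).surjective x'
      have hφx1 : φ x ∈ T₁ := by
        rw [cb_eqv, map_mem_map hf] at hφx; exact hφx
      have h4 : (⟨((eqv hf P x : P.map f) : Ω₂), hPT' (eqv hf P x).2⟩ : T₁.map f) =
          eqv hf T₁ ⟨x, hPT x.2⟩ := Subtype.ext rfl
      have h5 : (⟨cb hf φ (eqv hf P x), hφx⟩ : T₁.map f) =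
          eqv hf T₁ ⟨φ x, hφx1⟩ := Subtype.ext (cb_eqv hf φ x)
      have hαx1 : ((α ⟨x, hPT x.2⟩ : T₁) : Ω₁) ∈
          (P.subgroupOf T₁).map (T₁.subtype.comp α.toMonoidHom) := ⟨⟨x, hPT x.2⟩, x.2, rfl⟩
      have h6 := he x hφx1 hαx1
      rw [h5, coe_ca_apply, ← h6]
      have h2 : f ((α ⟨x, hPT x.2⟩ : T₁) : Ω₁) ∈
          ((P.subgroupOf T₁).map (T₁.subtype.comp α.toMonoidHom)).map f := ⟨_, hαx1, rfl⟩
      rw [← cb_apply hf χ ⟨_, hαx1⟩ h2]
      show cb hf χ _ = cb hf χ _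
      congr 1
      apply Subtype.ext
      show ((ca hf T₁ α _ : T₁.map f) : Ω₂) = f _
      rw [h4]
      exact coe_ca_apply hf T₁ α _
  · constructor
    · intro hfr P hPT φ hφ
      obtain ⟨α', hα', φ₀', hφ₀', he⟩ := hfr (P.map f) (Subgroup.map_mono hPT) (cb hf φ)
        ((hF.hom P φ).2 hφ)
      obtain ⟨α, rfl⟩ := exists_ca (hf := hf) α'
      obtain ⟨φ₀, hφ₀, rfl⟩ := h.exists_of_mem hφ₀'
      refine ⟨α, hF.mem_autGroup_iff.1 hα', φ₀, hφ₀, fun x hx => ?_⟩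
      apply hf
      have h1 := he (eqv hf P x) (by rw [cb_eqv]; exact ⟨_, hx, rfl⟩)
      rw [cb_eqv] at h1
      rw [h1]
      have h5 : (⟨cb hf φ₀ (eqv hf P x), by rw [cb_eqv]; exact ⟨_, hx, rfl⟩⟩ : T₁.map f) =
          eqv hf T₁ ⟨φ₀ x, hx⟩ := Subtype.ext (cb_eqv hf φ₀ x)
      rw [h5, coe_ca_apply]
    · intro hfr P' hPT' φ' hφ'
      obtain ⟨P, rfl, hPT⟩ := h.exists_source hPT'
      obtain ⟨φ, hφ, rfl⟩ := hF.exists_of_mem hφ'
      obtain ⟨α, hα, φ₀, hφ₀, he⟩ := hfr P hPT φ hφ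
      refine ⟨ca hf T₁ α, hF.mem_autGroup_iff.2 hα, cb hf φ₀, (h.hom P φ₀).2 hφ₀, fun x' hx' => ?_⟩
      obtain ⟨x, rfl⟩ := (eqv hf P).surjective x'
      have hx1 : φ₀ x ∈ T₁ := by
        rw [cb_eqv, map_mem_map hf] at hx'; exact hx'
      have h5 : (⟨cb hf φ₀ (eqv hf P x), hx'⟩ : T₁.map f) =
          eqv hf T₁ ⟨φ₀ x, hx1⟩ := Subtype.ext (cb_eqv hf φ₀ x)
      rw [h5, coe_ca_apply, cb_eqv, he x hx1]

/-- The extension condition in the definition of normality. -/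
def ExtCond {Ω : Type*} [Group Ω] {S T : Subgroup Ω} (E : FusionSystem T) (F : FusionSystem S) : Prop :=
  ∀ α ∈ E.autGroup T, ∃ R : Subgroup Ω, R = T ⊔ centralizerIn S T ∧ ∃ β ∈ F.autGroup R,
    (∀ (x : Ω) (hx : x ∈ T) (hx' : x ∈ R), ((β ⟨x, hx'⟩ : R) : Ω) = ((α ⟨x, hx⟩ : T) : Ω)) ∧
    ∀ c : R, (c : Ω) ∈ centralizerIn S T → (c : Ω)⁻¹ * ((β c : R) : Ω) ∈
      T ⊓ Subgroup.centralizer (T : Set Ω)

theorem isNormalIn_iff {Ω : Type*} [Group Ω] {S T : Subgroup Ω} {E : FusionSystem T}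
    {F : FusionSystem S} {p : ℕ} : E.IsNormalIn F p ↔ E.IsWeaklyNormalIn F p ∧ ExtCond E F := by
  refine and_congr Iff.rfl ?_
  constructor
  · intro h α hα
    obtain ⟨β, hβ, h1, h2⟩ := h α hα
    exact ⟨_, rfl, β, hβ, fun x hx hx' => h1 ⟨x, hx⟩, h2⟩
  · intro h α hα
    obtain ⟨_, rfl, β, hβ, h1, h2⟩ := h α hα
    exact ⟨β, hβ, fun x => h1 x x.2 _, h2⟩

theorem IsPush.extCond_iff (h : IsPush hf X₁ X₂) (hF : IsPush hf F₁ F₂) :
    ExtCond X₂ F₂ ↔ ExtCond X₁ F₁ := by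
  have hT := h.carrier
  subst hT
  have hS := hF.carrier
  subst hS
  have hR : T₁.map f ⊔ centralizerIn (S₁.map f) (T₁.map f) = (T₁ ⊔ centralizerIn S₁ T₁).map f := by
    rw [centralizerIn_map hf, Subgroup.map_sup]
  constructor
  · intro hE α hα
    obtain ⟨R', hR', β', hβ', h1, h2⟩ := hE (ca hf T₁ α) (h.mem_autGroup_iff.2 hα)
    rw [hR] at hR'
    subst hR'
    obtain ⟨β, rfl⟩ := exists_ca (hf := hf) β'
    refine ⟨_, rfl, β, hF.mem_autGroup_iff.1 hβ', fun x hx hx' => ?_, fun c hc => ?_⟩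
    · apply hf
      have h3 := h1 (f x) ⟨x, hx, rfl⟩ ⟨x, hx', rfl⟩
      have h4 : (⟨f x, ⟨x, hx', rfl⟩⟩ : (T₁ ⊔ centralizerIn S₁ T₁).map f) =
        eqv hf _ ⟨x, hx'⟩ := Subtype.ext rfl
      have h5 : (⟨f x, ⟨x, hx, rfl⟩⟩ : T₁.map f) = eqv hf _ ⟨x, hx⟩ := Subtype.ext rfl
      rw [h4, h5, coe_ca_apply, coe_ca_apply] at h3
      exact h3
    · have h3 := h2 (eqv hf _ c) (by rw [centralizerIn_map hf]; exact ⟨_, hc, rfl⟩)
      rw [coe_ca_apply, coe_eqv, ← map_inv, ← map_mul] at h3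
      exact ⟨(map_mem_map hf _).1 h3.1, (map_mem_centralizer hf _).1 h3.2⟩
  · intro hE α' hα'
    obtain ⟨α, rfl⟩ := exists_ca (hf := hf) α'
    obtain ⟨R, hR1, β, hβ, h1, h2⟩ := hE α (h.mem_autGroup_iff.1 hα')
    subst hR1
    refine ⟨_, hR.symm, ca hf _ β, hF.mem_autGroup_iff.2 hβ, fun y hy hy' => ?_, fun c hc => ?_⟩
    · obtain ⟨x, hx, rfl⟩ := hy
      have hx' : x ∈ T₁ ⊔ centralizerIn S₁ T₁ := (map_mem_map hf x).1 hy'
      have h4 : (⟨f x, hy'⟩ : (T₁ ⊔ centralizerIn S₁ T₁).map f) =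
        eqv hf _ ⟨x, hx'⟩ := Subtype.ext rfl
      have h5 : (⟨f x, ⟨x, hx, rfl⟩⟩ : T₁.map f) = eqv hf _ ⟨x, hx⟩ := Subtype.ext rfl
      rw [h4]
      show _ = ((ca hf T₁ α ⟨f x, ⟨x, hx, rfl⟩⟩ : T₁.map f) : Ω₂)
      rw [h5, coe_ca_apply, coe_ca_apply, h1 x hx hx']
    · obtain ⟨x, rfl⟩ := (eqv hf _).surjective c
      rw [centralizerIn_map hf] at hc
      have hx : (x : Ω₁) ∈ centralizerIn S₁ T₁ := (map_mem_map hf _).1 hc
      have h3 := h2 x hx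
      rw [coe_ca_apply, coe_eqv, ← map_inv, ← map_mul]
      exact ⟨(map_mem_map hf _).2 h3.1, (map_mem_centralizer hf _).2 h3.2⟩

theorem IsPush.isNormalIn_iff [Finite S₁] (h : IsPush hf X₁ X₂) (hF : IsPush hf F₁ F₂)
    {p : ℕ} [Fact p.Prime] : X₂.IsNormalIn F₂ p ↔ X₁.IsNormalIn F₁ p := by
  rw [H759.isNormalIn_iff, H759.isNormalIn_iff]
  by_cases hle : T₁ ≤ S₁
  · have : Finite T₁ := Finite.of_injective _ (Subgroup.inclusion_injective hle)
    refine and_congr ?_ (h.extCond_iff hF)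
    exact and_congr h.isSaturated_iff (and_congr hF.isSaturated_iff (h.isInvariantIn_iff hF))
  · constructor
    · intro hn
      exact absurd (hF.map_le_iff.1 (h.carrier ▸ hn.1.2.2.2.1.1)) hle
    · intro hn
      exact absurd hn.1.2.2.2.1.1 hle

theorem IsSubnormalIn.le {Ω : Type*} [Group Ω] {S T : Subgroup Ω} {E : FusionSystem T}
    {F : FusionSystem S} {p : ℕ} (h : E.IsSubnormalIn F p) : T ≤ S := by
  induction h with
  | refl F p => exact le_rfl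
  | step h1 h2 ih => exact ih.trans h2.1.2.2.2.1.1

theorem IsPush.isSubnormalIn [Finite S₁] {p : ℕ} [Fact p.Prime] (hF : IsPush hf F₁ F₂)
    (hs : X₁.IsSubnormalIn F₁ p) (h : IsPush hf X₁ X₂) : X₂.IsSubnormalIn F₂ p := by
  rename_i hfin hpr
  revert hfin hpr
  induction hs generalizing S₂ with
  | @refl F₁ p =>
    intro _ _
    have h1 : T₂ = S₂ := h.carrier.trans hF.carrier.symm
    subst h1
    have h2 : X₂ = F₂ := fusionSystem_ext (h.hom_eq hF)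
    subst h2
    exact IsSubnormalIn.refl _ _
  | @step U₁ S₁ E D F p h1 h2 ih =>
    intro _ _
    have : Finite U₁ := Finite.of_injective _ (Subgroup.inclusion_injective h2.1.2.2.2.1.1)
    obtain ⟨D₂, hD₂⟩ := exists_push hf D
    exact IsSubnormalIn.step (ih hD₂ h) ((hD₂.isNormalIn_iff hF).2 h2)

theorem IsPush.isSubnormalIn_rev [Finite S₁] {p : ℕ} [Fact p.Prime] (hF : IsPush hf F₁ F₂)
    (hs : X₂.IsSubnormalIn F₂ p) (h : IsPush hf X₁ X₂) : X₁.IsSubnormalIn F₁ p := by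
  rename_i hfin hpr
  revert hfin hpr
  induction hs generalizing S₁ with
  | @refl F₂ p =>
    intro _ _
    have h1 : T₁ = S₁ := (map_inj hf).1 (h.carrier.symm.trans hF.carrier)
    subst h1
    have h2 : X₁ = F₁ := by
      apply fusionSystem_ext
      intro P
      ext φ
      rw [← h.hom, ← hF.hom]
    subst h2
    exact IsSubnormalIn.refl _ _
  | @step U₂ S₂ E D F p h1 h2 ih =>
    intro _ _
    obtain ⟨U₁, rfl, hU₁⟩ := hF.exists_source h2.1.2.2.2.1.1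
    have : Finite U₁ := Finite.of_injective _ (Subgroup.inclusion_injective hU₁)
    obtain ⟨D₁, hD₁⟩ := exists_pull hf D
    exact IsSubnormalIn.step (ih hD₁ h) ((hD₁.isNormalIn_iff hF).1 h2)

theorem IsPush.isSimple [Finite S₁] {p : ℕ} [Fact p.Prime] (hF : IsPush hf F₁ F₂)
    (hs : F₁.IsSimple p) : F₂.IsSimple p := by
  obtain ⟨hsat, hne, hn⟩ := hs
  refine ⟨hF.isSaturated_iff.2 hsat, fun h => hne ?_, fun T₂ E₂ hE₂ => ?_⟩
  · apply (map_inj hf).1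
    rw [← hF.carrier, h, Subgroup.map_bot]
  · obtain ⟨T₁, rfl, hT₁⟩ := hF.exists_source hE₂.1.2.2.2.1.1
    obtain ⟨E₁, hE₁⟩ := exists_pull hf E₂
    rcases hn T₁ E₁ ((hE₁.isNormalIn_iff hF).1 hE₂) with h | ⟨h, h'⟩
    · left; rw [h, Subgroup.map_bot]
    · right
      refine ⟨by rw [h, hF.carrier], fun P' => ?_⟩
      ext φ'
      constructor
      · intro hφ'
        obtain ⟨P, rfl, hP⟩ := hE₁.exists_source (E₂.le_of_mem hφ').1
        obtain ⟨φ, hφ, rfl⟩ := hE₁.exists_of_mem hφ'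
        exact (hF.hom P φ).2 (by rw [← h']; exact hφ)
      · intro hφ'
        obtain ⟨P, rfl, hP⟩ := hF.exists_source (F₂.le_of_mem hφ').1
        obtain ⟨φ, hφ, rfl⟩ := hF.exists_of_mem hφ'
        exact (hE₁.hom P φ).2 (by rw [h']; exact hφ)

end sub

end Cfsg.Agent.H759
end

-- part: H759/FusTransportD
section
/-!
Transport of fusion systems, fourth part: composition, factor systems, simplicity and quasisimplicity, and conjugates of
subnormal subsystems and of components.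
-/

set_option autoImplicit false

namespace Cfsg.Agent.H759

open Cfsg Cfsg.FusionSystem

section cancel

variable {Ω₀ Ω₁ Ω₂ : Type*} [Group Ω₀] [Group Ω₁] [Group Ω₂] {g : Ω₀ →* Ω₁} {f : Ω₁ →* Ω₂}
  {k : Ω₀ →* Ω₂} {hg : Function.Injective g} {hf : Function.Injective f} {hk : Function.Injective k}

/-- Membership in the set of maps only depends on the values. -/
theorem mem_hom_of_eq {Ω : Type*} [Group Ω] {S : Subgroup Ω} (F : FusionSystem S) {P Q : Subgroup Ω}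
    (hPQ : P = Q) {φ : P →* Ω} {ψ : Q →* Ω} (hφ : φ ∈ F.Hom P)
    (h : ∀ (x : Ω) (hx : x ∈ P) (hx' : x ∈ Q), ψ ⟨x, hx'⟩ = φ ⟨x, hx⟩) : ψ ∈ F.Hom Q := by
  subst hPQ
  exact mem_congr F hφ (fun x => h x x.2 x.2)

theorem map_map_eq (hk' : ∀ x, k x = f (g x)) (P : Subgroup Ω₀) : P.map k = (P.map g).map f := by
  ext y
  constructor
  · rintro ⟨x, hx, rfl⟩
    exact ⟨g x, ⟨x, hx, rfl⟩, (hk' x).symm⟩
  · rintro ⟨_, ⟨x, hx, rfl⟩, rfl⟩
    exact ⟨x, hx, hk' x⟩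

/-- Cancellation for compositions of push-forwards. -/
theorem IsPush.cancel {T₀ : Subgroup Ω₀} {T₁ : Subgroup Ω₁} {T₂ : Subgroup Ω₂} {X₀ : FusionSystem T₀}
    {X₁ : FusionSystem T₁} {X₂ : FusionSystem T₂} (h1 : IsPush hg X₀ X₁) (h2 : IsPush hk X₀ X₂)
    (hk' : ∀ x, k x = f (g x)) : IsPush hf X₁ X₂ := by
  refine ⟨by rw [h2.carrier, h1.carrier, map_map_eq hk'], fun P φ => ?_⟩
  have hval : ∀ (P₀ : Subgroup Ω₀) (φ₀ : P₀ →* Ω₀) (x : Ω₂) (hx : x ∈ P₀.map k)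
      (hx' : x ∈ (P₀.map g).map f), cb hf (cb hg φ₀) ⟨x, hx'⟩ = cb hk φ₀ ⟨x, hx⟩ := by
    rintro P₀ φ₀ _ ⟨x, hx, rfl⟩ hx'
    have h3 := cb_apply hk φ₀ ⟨x, hx⟩ ⟨x, hx, rfl⟩
    refine Eq.trans ?_ h3.symm
    have h4 := cb_apply hg φ₀ ⟨x, hx⟩ ⟨x, hx, rfl⟩
    have h5 := cb_apply hf (cb hg φ₀) ⟨g x, ⟨x, hx, rfl⟩⟩ ⟨g x, ⟨x, hx, rfl⟩, rfl⟩
    rw [h4] at h5
    refine Eq.trans ?_ (h5.trans (hk' _).symm)
    congr 1
    exact Subtype.ext (hk' x)
  constructor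
  · intro hφ
    have hle : P ≤ T₁ := by
      have h3 := (X₂.le_of_mem hφ).1
      rw [h2.carrier, map_map_eq hk', ← h1.carrier] at h3
      exact (map_le_map hf).1 h3
    obtain ⟨P₀, rfl, hP₀⟩ := h1.exists_source hle
    obtain ⟨φ₀, rfl⟩ := exists_eq_cb hg φ (by
      intro y
      have h3 := (X₂.le_of_mem hφ).2 (eqv hf _ y)
      rw [cb_eqv, h2.carrier, map_map_eq hk', map_mem_map hf] at h3
      exact Subgroup.map_le_range g T₀ h3)
    rw [h1.hom, ← h2.hom]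
    exact mem_hom_of_eq X₂ (map_map_eq hk' P₀).symm hφ (fun x hx hx' => (hval P₀ φ₀ x hx' hx).symm)
  · intro hφ
    obtain ⟨P₀, rfl, hP₀⟩ := h1.exists_source (X₁.le_of_mem hφ).1
    obtain ⟨φ₀, hφ₀, rfl⟩ := h1.exists_of_mem hφ
    have h3 := (h2.hom P₀ φ₀).2 hφ₀
    exact mem_hom_of_eq X₂ (map_map_eq hk' P₀) h3 (fun x hx hx' => hval P₀ φ₀ x hx hx')

end cancel

section factor

variable {Ω₁ Ω₂ : Type*} [Group Ω₁] [Group Ω₂] {f : Ω₁ →* Ω₂} {hf : Function.Injective f}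
  {S₁ : Subgroup Ω₁} {S₂ : Subgroup Ω₂} {F₁ : FusionSystem S₁} {F₂ : FusionSystem S₂}

/-- Pull back with a carrier equal to an image. -/
theorem exists_pull' {T₁ : Subgroup Ω₁} {T₂ : Subgroup Ω₂} (h : T₂ = T₁.map f) (X₂ : FusionSystem T₂) :
    ∃ X₁ : FusionSystem T₁, IsPush hf X₁ X₂ := by
  subst h
  exact exists_pull hf X₂

theorem exists_push' {T₁ : Subgroup Ω₁} {T₂ : Subgroup Ω₂} (h : T₂ = T₁.map f) (X₁ : FusionSystem T₁) :
    ∃ X₂ : FusionSystem T₂, IsPush hf X₁ X₂ := by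
  subst h
  exact exists_push hf X₁

/-- A factor system modulo the trivial subgroup, read through `γ : T →* Ω'`, is the push-forward of the system viewed
inside the group `T`. -/
theorem isPush_of_isFactorSystem_bot {Ω Ω' : Type*} [Group Ω] [Group Ω'] {T : Subgroup Ω} {R : Subgroup Ω'}
    {C : FusionSystem T} {γ : T →* Ω'} {E : FusionSystem R} (hE : C.IsFactorSystem ⊥ γ E)
    {hγ : Function.Injective γ} {C' : FusionSystem (⊤ : Subgroup T)}
    (hC' : IsPush (Subgroup.subtype_injective T) C' C) : IsPush hγ C' E := by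
  have hcar : R = (⊤ : Subgroup T).map γ := by rw [← hE.2.2.1, MonoidHom.range_eq_map]
  refine ⟨hcar, fun P φ => ?_⟩
  rw [hE.2.2.2, ← hC'.hom]
  have hpre : preimageAlong γ (P.map γ) = P.map T.subtype := by
    ext x
    rw [mem_preimageAlong]
    constructor
    · rintro ⟨hx, hx'⟩
      exact ⟨⟨x, hx⟩, (map_mem_map hγ _).1 hx', rfl⟩
    · rintro ⟨y, hy, rfl⟩
      exact ⟨y.2, ⟨y, hy, rfl⟩⟩
  constructor
  · rintro ⟨hP, ψ, hψ, h1, h2, h3, h4⟩
    refine mem_hom_of_eq C hpre hψ (fun x hx hx' => ?_)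
    obtain ⟨y, hy, rfl⟩ := hx'
    have h5 := h4 ⟨y, hx⟩
    have h6 := cb_apply hγ φ ⟨y, hy⟩ ⟨y, hy, rfl⟩
    have h7 := cb_apply (Subgroup.subtype_injective T) φ ⟨y, hy⟩ ⟨y, hy, rfl⟩
    refine Eq.trans h7 ?_
    have h8 : γ (φ ⟨y, hy⟩) = γ ⟨ψ ⟨y, hx⟩, h2 _⟩ := h6.symm.trans h5
    exact congrArg Subtype.val (hγ h8)
  · intro hφ
    refine ⟨?_, (cb (Subgroup.subtype_injective T) φ).comp (Subgroup.inclusion hpre.le),
      res_mem_comp C hφ hpre.le, ?_⟩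
    · rw [hcar]; exact Subgroup.map_mono le_top
    · refine ⟨preimageAlong_le, fun x => (C.le_of_mem hφ).2 _, fun x => ?_, fun x => ?_⟩
      · exact (mem_preimageAlong.1 x.2).2
      · obtain ⟨x, hx⟩ := x
        obtain ⟨hxT, hx'⟩ := mem_preimageAlong.1 hx
        have hxP : (⟨x, hxT⟩ : T) ∈ P := (map_mem_map hγ _).1 hx'
        have h6 := cb_apply hγ φ ⟨⟨x, hxT⟩, hxP⟩ ⟨⟨x, hxT⟩, hxP, rfl⟩
        refine Eq.trans h6 ?_
        congr 1
        apply Subtype.ext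
        exact (cb_apply (Subgroup.subtype_injective T) φ ⟨⟨x, hxT⟩, hxP⟩ ⟨⟨x, hxT⟩, hxP, rfl⟩).symm

variable {Q₁ Q₂ : Type*} [Group Q₁] [Group Q₂] {e : Q₁ →* Q₂} {he : Function.Injective e}
  {R₁ : Subgroup Q₁} {R₂ : Subgroup Q₂} {E₁ : FusionSystem R₁} {E₂ : FusionSystem R₂}

theorem IsPush.isFactorSystem_iff (hF : IsPush hf F₁ F₂) (hE : IsPush he E₁ E₂)
    {Z₁ : Subgroup Ω₁} {Z₂ : Subgroup Ω₂} (hZ : Z₂ = Z₁.map f) {θ₁ : S₁ →* Q₁} {θ₂ : S₂ →* Q₂}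
    (hθ : ∀ (x : Ω₁) (hx : x ∈ S₁) (hx' : f x ∈ S₂), θ₂ ⟨f x, hx'⟩ = e (θ₁ ⟨x, hx⟩)) :
    F₂.IsFactorSystem Z₂ θ₂ E₂ ↔ F₁.IsFactorSystem Z₁ θ₁ E₁ := by
  have hS := hF.carrier
  subst hS
  subst hZ
  have hR := hE.carrier
  subst hR
  have hθ' : ∀ x : S₁, θ₂ (eqv hf S₁ x) = e (θ₁ x) := fun x => hθ x x.2 _
  have hker : (∀ s : S₁.map f, θ₂ s = 1 ↔ (s : Ω₂) ∈ Z₁.map f) ↔
      (∀ s : S₁, θ₁ s = 1 ↔ (s : Ω₁) ∈ Z₁) := by
    constructor
    · intro h s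
      have h1 := h (eqv hf S₁ s)
      rw [hθ', coe_eqv, map_mem_map hf, map_eq_one_iff e he] at h1
      exact h1
    · intro h s'
      obtain ⟨s, rfl⟩ := (eqv hf S₁).surjective s'
      rw [hθ', coe_eqv, map_mem_map hf, map_eq_one_iff e he]
      exact h s
  have hran : θ₂.range = R₁.map e ↔ θ₁.range = R₁ := by
    have h1 : θ₂.range = θ₁.range.map e := by
      ext y
      constructor
      · rintro ⟨s', rfl⟩
        obtain ⟨s, rfl⟩ := (eqv hf S₁).surjective s'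
        rw [hθ']
        exact ⟨_, ⟨s, rfl⟩, rfl⟩
      · rintro ⟨_, ⟨s, rfl⟩, rfl⟩
        exact ⟨eqv hf S₁ s, hθ' s⟩
    rw [h1, map_inj he]
  have hpre : ∀ P : Subgroup Q₁, preimageAlong θ₂ (P.map e) = (preimageAlong θ₁ P).map f := by
    intro P
    ext y
    rw [mem_preimageAlong]
    constructor
    · rintro ⟨⟨x, hx, rfl⟩, h⟩
      have h1 := hθ' ⟨x, hx⟩
      have h2 : θ₂ (eqv hf S₁ ⟨x, hx⟩) ∈ P.map e := h
      rw [h1, map_mem_map he] at h2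
      exact ⟨x, mem_preimageAlong.2 ⟨hx, h2⟩, rfl⟩
    · rintro ⟨x, hx, rfl⟩
      obtain ⟨hxS, hx'⟩ := mem_preimageAlong.1 hx
      refine ⟨⟨x, hxS, rfl⟩, ?_⟩
      show θ₂ (eqv hf S₁ ⟨x, hxS⟩) ∈ P.map e
      rw [hθ', map_mem_map he]
      exact hx'
  have hind : ∀ (P : Subgroup Q₁) (φ' : P →* Q₁) (ψ : preimageAlong θ₁ P →* Ω₁)
      (ψ' : preimageAlong θ₂ (P.map e) →* Ω₂),
      (∀ (x : Ω₁) (hx : x ∈ preimageAlong θ₁ P) (hx' : f x ∈ preimageAlong θ₂ (P.map e)),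
        ψ' ⟨f x, hx'⟩ = f (ψ ⟨x, hx⟩)) →
      (InducedAlong θ₂ ψ' (cb he φ') ↔ InducedAlong θ₁ ψ φ') := by
    intro P φ' ψ ψ' hval
    constructor
    · rintro ⟨h1, h2, h3, h4⟩
      have hmem : ∀ x : preimageAlong θ₁ P, f x ∈ preimageAlong θ₂ (P.map e) := by
        intro x
        exact (hpre P).ge ⟨x, x.2, rfl⟩
      have hψS : ∀ x : preimageAlong θ₁ P, ψ x ∈ S₁ := by
        intro x
        have h5 := h2 ⟨f x, hmem x⟩
        rw [hval x x.2, map_mem_map hf] at h5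
        exact h5
      refine ⟨preimageAlong_le, hψS, fun x => (mem_preimageAlong.1 x.2).2, fun x => ?_⟩
      apply he
      have h5 := h4 ⟨f x, hmem x⟩
      have hxS : (x : Ω₁) ∈ S₁ := preimageAlong_le x.2
      have h6 : (⟨ψ' ⟨f x, hmem x⟩, h2 _⟩ : S₁.map f) = eqv hf S₁ ⟨ψ x, hψS x⟩ :=
        Subtype.ext (hval x x.2 _)
      rw [h6, hθ'] at h5
      rw [← h5]
      have h7 : e (θ₁ ⟨x, hxS⟩) ∈ P.map e := ⟨_, (mem_preimageAlong.1 x.2).2, rfl⟩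
      rw [← cb_apply he φ' ⟨θ₁ ⟨x, hxS⟩, (mem_preimageAlong.1 x.2).2⟩ h7]
      congr 1
      apply Subtype.ext
      exact (hθ' ⟨x, hxS⟩).symm
    · rintro ⟨h1, h2, h3, h4⟩
      have hsurj : ∀ y : preimageAlong θ₂ (P.map e), ∃ x : preimageAlong θ₁ P, f x = y := by
        intro y
        have := (hpre P).le y.2
        obtain ⟨x, hx, hxy⟩ := this
        exact ⟨⟨x, hx⟩, hxy⟩
      refine ⟨preimageAlong_le, fun y => ?_, fun y => (mem_preimageAlong.1 y.2).2, fun y => ?_⟩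
      · obtain ⟨x, hx⟩ := hsurj y
        have h5 := hval x x.2 (by rw [hx]; exact y.2)
        have h6 : (⟨f x, by rw [hx]; exact y.2⟩ : preimageAlong θ₂ (P.map e)) = y :=
          Subtype.ext hx
        rw [h6] at h5
        rw [h5]
        exact ⟨_, h2 x, rfl⟩
      · obtain ⟨x, hx⟩ := hsurj y
        obtain ⟨y, hy⟩ := y
        have hx2 : f x = y := hx
        subst hx2
        have hxS : (x : Ω₁) ∈ S₁ := preimageAlong_le x.2
        have h5 := hval x x.2 hy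
        have h6 := h4 x
        have h7 : e (θ₁ ⟨x, hxS⟩) ∈ P.map e := ⟨_, (mem_preimageAlong.1 x.2).2, rfl⟩
        have h8 := cb_apply he φ' ⟨θ₁ ⟨x, hxS⟩, (mem_preimageAlong.1 x.2).2⟩ h7
        have h9 : φ' ⟨θ₁ ⟨x, hxS⟩, (mem_preimageAlong.1 x.2).2⟩ = θ₁ ⟨ψ x, h2 x⟩ := h6
        rw [h9] at h8
        have h10 : θ₂ ⟨ψ' ⟨f x, hy⟩, by rw [h5]; exact ⟨_, h2 x, rfl⟩⟩ =
            e (θ₁ ⟨ψ x, h2 x⟩) := by
          rw [← hθ']
          congr 1
          exact Subtype.ext h5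
        refine Eq.trans ?_ (h8.trans h10.symm)
        show cb he φ' _ = cb he φ' _
        congr 1
        apply Subtype.ext
        exact hθ' ⟨x, hxS⟩
  constructor
  · rintro ⟨h1, h2, h3, h⟩
    refine ⟨(map_le_map hf).1 h1, hker.1 h2, hran.1 h3, fun P φ' => ?_⟩
    have h1 := h (P.map e) (cb he φ')
    rw [hE.hom] at h1
    rw [h1, map_le_map he]
    refine and_congr Iff.rfl ?_
    constructor
    · rintro ⟨ψ', hψ', hi⟩
      have h2 := res_mem_comp F₂ hψ' (hpre P).ge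
      obtain ⟨ψ, hψ, hψe⟩ := hF.exists_of_mem h2
      refine ⟨ψ, hψ, (hind P φ' ψ ψ' (fun x hx hx' => ?_)).1 hi⟩
      have h3 : f x ∈ (preimageAlong θ₁ P).map f := ⟨x, hx, rfl⟩
      have h4 := cb_apply hf ψ ⟨x, hx⟩ h3
      rw [← hψe] at h4
      exact h4
    · rintro ⟨ψ, hψ, hi⟩
      refine ⟨(cb hf ψ).comp (Subgroup.inclusion (hpre P).le),
        res_mem_comp F₂ ((hF.hom _ _).2 hψ) (hpre P).le, (hind P φ' ψ _ (fun x hx hx' => ?_)).2 hi⟩
      exact cb_apply hf ψ ⟨x, hx⟩ _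
  · rintro ⟨h1, h2, h3, h⟩
    refine ⟨(map_le_map hf).2 h1, hker.2 h2, hran.2 h3, fun P'' φ'' => ?_⟩
    constructor
    · intro hφ
      obtain ⟨P, rfl, hP⟩ := hE.exists_source (E₂.le_of_mem hφ).1
      obtain ⟨φ', hφ', rfl⟩ := hE.exists_of_mem hφ
      obtain ⟨hP', ψ, hψ, hi⟩ := (h P φ').1 hφ'
      refine ⟨(map_le_map he).2 hP', (cb hf ψ).comp (Subgroup.inclusion (hpre P).le),
        res_mem_comp F₂ ((hF.hom _ _).2 hψ) (hpre P).le, (hind P φ' ψ _ (fun x hx hx' => ?_)).2 hi⟩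
      exact cb_apply hf ψ ⟨x, hx⟩ _
    · rintro ⟨hP'', ψ', hψ', hi⟩
      obtain ⟨P, rfl, hP⟩ := hE.exists_source hP''
      have h2 := res_mem_comp F₂ hψ' (hpre P).ge
      obtain ⟨ψ, hψ, hψe⟩ := hF.exists_of_mem h2
      -- the values of `φ''` lie in the range of `e`
      obtain ⟨φ', rfl⟩ := exists_eq_cb he φ'' (by
        intro y
        obtain ⟨q, rfl⟩ := (eqv he P).surjective y
        obtain ⟨h3', h4, h5, h6⟩ := hi
        have hq : (q : Q₁) ∈ θ₁.range := by rw [h3]; exact hP q.2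
        obtain ⟨x, hx⟩ := hq
        have hxpre : (eqv hf S₁ x : Ω₂) ∈ preimageAlong θ₂ (P.map e) := by
          refine mem_preimageAlong.2 ⟨(eqv hf S₁ x).2, ?_⟩
          have h7 := hθ' x
          rw [hx] at h7
          have h8 : θ₂ ⟨(eqv hf S₁ x : Ω₂), (eqv hf S₁ x).2⟩ = e q := h7
          rw [h8]
          exact ⟨q, q.2, rfl⟩
        have h9 := h6 ⟨_, hxpre⟩
        have h10 : (⟨θ₂ ⟨(eqv hf S₁ x : Ω₂), (eqv hf S₁ x).2⟩, h5 ⟨_, hxpre⟩⟩ : P.map e) =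
            eqv he P q := by
          apply Subtype.ext
          have h7 := hθ' x
          rw [hx] at h7
          exact h7
        have h11 : φ'' (eqv he P q) = θ₂ ⟨ψ' ⟨_, hxpre⟩, h4 ⟨_, hxpre⟩⟩ := by
          rw [← h10]; exact h9
        rw [h11]
        obtain ⟨s, hs⟩ := (eqv hf S₁).surjective ⟨ψ' ⟨_, hxpre⟩, h4 ⟨_, hxpre⟩⟩
        rw [← hs, hθ']
        exact ⟨_, rfl⟩)
      rw [hE.hom, h]
      refine ⟨hP, ψ, hψ, (hind P φ' ψ ψ' (fun x hx hx' => ?_)).1 hi⟩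
      have h3' : f x ∈ (preimageAlong θ₁ P).map f := ⟨x, hx, rfl⟩
      have h4 := cb_apply hf ψ ⟨x, hx⟩ h3'
      rw [← hψe] at h4
      exact h4

end factor

section quasi

variable {Ω₁ Ω₂ : Type*} [Group Ω₁] [Group Ω₂] {f : Ω₁ →* Ω₂} {hf : Function.Injective f}
  {S₁ : Subgroup Ω₁} {S₂ : Subgroup Ω₂} {F₁ : FusionSystem S₁} {F₂ : FusionSystem S₂}

theorem IsPush.isSimple_iff [Finite S₁] {p : ℕ} [Fact p.Prime] (hF : IsPush hf F₁ F₂) :
    F₂.IsSimple p ↔ F₁.IsSimple p := by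
  refine ⟨fun hs => ?_, hF.isSimple⟩
  obtain ⟨hsat, hne, hn⟩ := hs
  refine ⟨hF.isSaturated_iff.1 hsat, fun h => hne ?_, fun T₁ E₁ hE₁ => ?_⟩
  · rw [hF.carrier, h, Subgroup.map_bot]
  · obtain ⟨E₂, hE₂⟩ := exists_push hf E₁
    rcases hn _ E₂ ((hE₂.isNormalIn_iff hF).2 hE₁) with h | ⟨h, h'⟩
    · left
      apply (map_inj hf).1
      rw [h, Subgroup.map_bot]
    · right
      refine ⟨(map_inj hf).1 (h.trans hF.carrier), fun P => ?_⟩
      ext φ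
      rw [← hE₂.hom, ← hF.hom, h']

theorem center_le {Ω : Type*} [Group Ω] {S : Subgroup Ω} (F : FusionSystem S) : F.center ≤ S :=
  sSup_le fun _ hQ => hQ.1

theorem IsPush.quasisimple_iff [Finite S₁] {p : ℕ} [Fact p.Prime] (hF : IsPush hf F₁ F₂) :
    F₂.Quasisimple p ↔ F₁.Quasisimple p := by
  have hS := hF.carrier
  subst hS
  have hZ := hF.center_eq
  -- the isomorphism of the quotients
  have hmap : ((F₁.center).subgroupOf S₁).map (eqv hf S₁ : S₁ →* S₁.map f) =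
      (F₂.center).subgroupOf (S₁.map f) := by
    ext y
    rw [Subgroup.mem_subgroupOf, hZ]
    constructor
    · rintro ⟨x, hx, rfl⟩
      exact ⟨x, hx, rfl⟩
    · intro hy
      obtain ⟨x, rfl⟩ := (eqv hf S₁).surjective y
      exact ⟨x, (map_mem_map hf _).1 hy, rfl⟩
  let e := QuotientGroup.congr ((F₁.center).subgroupOf S₁) ((F₂.center).subgroupOf (S₁.map f))
    (eqv hf S₁) hmap
  have he : Function.Injective e.toMonoidHom := e.injective
  have htop : (⊤ : Subgroup (S₁.map f ⧸ (F₂.center).subgroupOf (S₁.map f))) =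
      (⊤ : Subgroup (S₁ ⧸ (F₁.center).subgroupOf S₁)).map e.toMonoidHom := by
    rw [← MonoidHom.range_eq_map]
    exact (MonoidHom.range_eq_top.2 e.surjective).symm
  have hθ : ∀ (x : Ω₁) (hx : x ∈ S₁) (hx' : f x ∈ S₁.map f),
      QuotientGroup.mk' ((F₂.center).subgroupOf (S₁.map f)) ⟨f x, hx'⟩ =
        e.toMonoidHom (QuotientGroup.mk' ((F₁.center).subgroupOf S₁) ⟨x, hx⟩) := fun x hx hx' => rfl
  unfold FusionSystem.Quasisimple
  refine and_congr hF.isSaturated_iff (and_congr ?_ ?_)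
  · rw [hF.hyperfocal_eq, map_inj hf]
  · constructor
    · intro h E₁ hE₁
      obtain ⟨E₂, hE₂⟩ := exists_push' (hf := he) htop E₁
      have h1 := (hF.isFactorSystem_iff hE₂ hZ hθ).2 hE₁
      exact hE₂.isSimple_iff.1 (h E₂ h1)
    · intro h E₂ hE₂
      obtain ⟨E₁, hE₁⟩ := exists_pull' (hf := he) htop E₂
      have h1 := (hF.isFactorSystem_iff hE₁ hZ hθ).1 hE₂
      exact hE₁.isSimple_iff.2 (h E₁ h1)

end quasi

end Cfsg.Agent.H759
end
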