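import Cfsg.Agent.H759.FusNormal
set_option linter.all false

/-!
Factor systems of a fusion system modulo a strongly closed subgroup: induced maps, existence, saturation,
strongly closed subgroups of the factor system.
-/

set_option autoImplicit false

namespace Cfsg.Agent.H759

open Cfsg Cfsg.FusionSystem
open scoped commutatorElement

variable {Ω : Type*} [Group Ω] {S : Subgroup Ω} {Ω' : Type*} [Group Ω'] {S' : Subgroup Ω'}

theorem mem_preimageAlong {θ : S →* Ω'} {P' : Subgroup Ω'} {x : Ω} :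
    x ∈ preimageAlong θ P' ↔ ∃ hx : x ∈ S, θ ⟨x, hx⟩ ∈ P' := by
  constructor
  · rintro ⟨y, hy, rfl⟩
    exact ⟨y.2, hy⟩
  · rintro ⟨hx, h⟩
    exact ⟨⟨x, hx⟩, h, rfl⟩

theorem preimageAlong_le {θ : S →* Ω'} {P' : Subgroup Ω'} : preimageAlong θ P' ≤ S :=
  fun _ hx => (mem_preimageAlong.1 hx).1

theorem preimageAlong_mono {θ : S →* Ω'} {P' Q' : Subgroup Ω'} (h : P' ≤ Q') :
    preimageAlong θ P' ≤ preimageAlong θ Q' := by
  intro x hx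
  obtain ⟨hx, h'⟩ := mem_preimageAlong.1 hx
  exact mem_preimageAlong.2 ⟨hx, h h'⟩

theorem mem_imageAlong {θ : S →* Ω'} {P : Subgroup Ω} {y : Ω'} :
    y ∈ imageAlong θ P ↔ ∃ (x : Ω) (hx : x ∈ S), x ∈ P ∧ θ ⟨x, hx⟩ = y := by
  constructor
  · rintro ⟨x, hx, rfl⟩
    exact ⟨x, x.2, hx, rfl⟩
  · rintro ⟨x, hx, hxP, rfl⟩
    exact ⟨⟨x, hx⟩, hxP, rfl⟩

theorem imageAlong_le_range {θ : S →* Ω'} {P : Subgroup Ω} : imageAlong θ P ≤ θ.range := by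
  intro y hy
  obtain ⟨x, hx, -, rfl⟩ := mem_imageAlong.1 hy
  exact ⟨_, rfl⟩

/-- Construction of an induced homomorphism. -/
theorem exists_induced {θ : S →* Ω'} {S₀ : Subgroup Ω} (hker : ∀ s : S, θ s = 1 ↔ (s : Ω) ∈ S₀)
    {P : Subgroup Ω} (hP : P ≤ S) {P' : Subgroup Ω'} (h1 : ∀ (x : P), θ ⟨x, hP x.2⟩ ∈ P')
    (h2 : ∀ y ∈ P', ∃ x : P, θ ⟨x, hP x.2⟩ = y) {φ : P →* Ω} (hφ : ∀ x, φ x ∈ S)
    (h0 : ∀ x : P, (x : Ω) ∈ S₀ → φ x ∈ S₀) :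
    ∃ φ' : P' →* Ω', InducedAlong θ φ φ' := by
  have h2' : ∀ y : P', ∃ x : P, θ ⟨x, hP x.2⟩ = y := fun y => h2 y y.2
  choose s hs using h2'
  have key : ∀ a b : P, θ ⟨a, hP a.2⟩ = θ ⟨b, hP b.2⟩ → θ ⟨φ a, hφ a⟩ = θ ⟨φ b, hφ b⟩ := by
    intro a b hab
    have h3 : θ ⟨((a⁻¹ * b : P) : Ω), hP (a⁻¹ * b).2⟩ = 1 := by
      have : (⟨((a⁻¹ * b : P) : Ω), hP (a⁻¹ * b).2⟩ : S) = ⟨a, hP a.2⟩⁻¹ * ⟨b, hP b.2⟩ := rfl
      rw [this, map_mul, map_inv, hab, inv_mul_cancel]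
    have h4 := h0 (a⁻¹ * b) ((hker _).1 h3)
    have h5 := (hker ⟨φ (a⁻¹ * b), hφ _⟩).2 h4
    have h6 : (⟨φ (a⁻¹ * b), hφ _⟩ : S) = ⟨φ a, hφ a⟩⁻¹ * ⟨φ b, hφ b⟩ := by
      apply Subtype.ext
      show φ (a⁻¹ * b) = (φ a)⁻¹ * φ b
      rw [map_mul, map_inv]
    rw [h6, map_mul, map_inv, inv_mul_eq_one] at h5
    exact h5
  refine ⟨{ toFun := fun y => θ ⟨φ (s y), hφ _⟩
            map_one' := ?_
            map_mul' := ?_ }, hP, hφ, h1, ?_⟩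
  · have h3 := key (s 1) 1 (by
      rw [hs]
      have : (⟨((1 : P) : Ω), hP (1 : P).2⟩ : S) = 1 := rfl
      rw [this, map_one]; rfl)
    rw [h3]
    have : (⟨φ 1, hφ 1⟩ : S) = 1 := Subtype.ext (map_one φ)
    rw [this, map_one]
  · intro a b
    have h3 := key (s (a * b)) (s a * s b) (by
      rw [hs]
      have : (⟨((s a * s b : P) : Ω), hP (s a * s b).2⟩ : S) =
        ⟨s a, hP (s a).2⟩ * ⟨s b, hP (s b).2⟩ := rfl
      rw [this, map_mul, hs, hs]; rfl)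
    rw [h3]
    have : (⟨φ (s a * s b), hφ _⟩ : S) = ⟨φ (s a), hφ _⟩ * ⟨φ (s b), hφ _⟩ :=
      Subtype.ext (map_mul φ _ _)
    rw [this, map_mul]
  · intro x
    exact key _ _ (hs _)

variable {F : FusionSystem S} {S₀ : Subgroup Ω} {θ : S →* Ω'}

/-- The induced homomorphism of a map of the system with source a full preimage. -/
theorem exists_induced_of_mem (hS₀ : F.StronglyClosed S₀) (hker : ∀ s : S, θ s = 1 ↔ (s : Ω) ∈ S₀)
    (hr : θ.range = S') {P' : Subgroup Ω'} (hP' : P' ≤ S') {φ : preimageAlong θ P' →* Ω}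
    (hφ : φ ∈ F.Hom (preimageAlong θ P')) : ∃ φ' : P' →* Ω', InducedAlong θ φ φ' := by
  refine exists_induced hker preimageAlong_le (fun x => ?_) ?_ (F.le_of_mem hφ).2
    (fun x hx => StronglyClosed.apply_mem hS₀ hφ hx)
  · exact (mem_preimageAlong.1 x.2).2
  · intro y hy
    have h1 := hP' hy
    rw [← hr] at h1
    obtain ⟨x, rfl⟩ := h1
    exact ⟨⟨x, mem_preimageAlong.2 ⟨x.2, hy⟩⟩, rfl⟩

theorem le_preimageAlong (hS₀ : S₀ ≤ S) (hker : ∀ s : S, θ s = 1 ↔ (s : Ω) ∈ S₀) {P' : Subgroup Ω'} :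
    S₀ ≤ preimageAlong θ P' := by
  intro x hx
  refine mem_preimageAlong.2 ⟨hS₀ hx, ?_⟩
  rw [(hker ⟨x, hS₀ hx⟩).2 hx]; exact one_mem _

theorem apply_mem_preimageAlong {P' Q' : Subgroup Ω'} {φ : preimageAlong θ P' →* Ω}
    {φ' : P' →* Ω'} (h : InducedAlong θ φ φ') (hQ : ∀ y : P', φ' y ∈ Q') (x : preimageAlong θ P') :
    φ x ∈ preimageAlong θ Q' := by
  obtain ⟨hP, hφ, hP', he⟩ := h
  refine mem_preimageAlong.2 ⟨hφ x, ?_⟩
  rw [← he x]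
  exact hQ _

/-- Existence of the factor system modulo a strongly closed subgroup. -/
theorem exists_factorSystem [Finite S] (hS₀ : F.StronglyClosed S₀)
    (hker : ∀ s : S, θ s = 1 ↔ (s : Ω) ∈ S₀) (hr : θ.range = S') :
    ∃ E : FusionSystem S', F.IsFactorSystem S₀ θ E := by
  have hpre : ∀ {P' : Subgroup Ω'}, P' ≤ S' → ∀ y ∈ P', ∃ (x : Ω) (hx : x ∈ S),
      x ∈ preimageAlong θ P' ∧ θ ⟨x, hx⟩ = y := by
    intro P' hP' y hy
    have h1 := hP' hy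
    rw [← hr] at h1
    obtain ⟨x, rfl⟩ := h1
    exact ⟨x, x.2, mem_preimageAlong.2 ⟨x.2, hy⟩, rfl⟩
  refine ⟨{ Hom := fun P' => {φ' | P' ≤ S' ∧ ∃ φ ∈ F.Hom (preimageAlong θ P'), InducedAlong θ φ φ'}
            le_of_mem := ?_
            injective_of_mem := ?_
            conj_mem := ?_
            comp_mem := ?_
            inv_mem := ?_ }, hS₀.1, hker, hr, fun P' φ' => Iff.rfl⟩
  · rintro P' φ' ⟨hP', φ, hφ, hP, hφS, h1, h2⟩
    refine ⟨hP', fun y => ?_⟩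
    obtain ⟨x, hx, hxP, hxy⟩ := hpre hP' y y.2
    have h3 := h2 ⟨x, hxP⟩
    have h4 : (⟨θ ⟨x, hP hxP⟩, h1 ⟨x, hxP⟩⟩ : P') = y := Subtype.ext hxy
    rw [h4] at h3
    rw [h3, ← hr]
    exact ⟨_, rfl⟩
  · rintro P' φ' ⟨hP', φ, hφ, hP, hφS, h1, h2⟩
    rw [injective_iff_map_eq_one]
    intro y hy
    obtain ⟨x, hx, hxP, hxy⟩ := hpre hP' y y.2
    have h3 := h2 ⟨x, hxP⟩
    have h4 : (⟨θ ⟨x, hP hxP⟩, h1 ⟨x, hxP⟩⟩ : P') = y := Subtype.ext hxy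
    rw [h4, hy] at h3
    have h5 := (hker _).1 h3.symm
    have h6 := StronglyClosed.mem_of_apply_mem hS₀ hφ h5
    apply Subtype.ext
    rw [← hxy]
    exact (hker ⟨x, hx⟩).2 h6
  · intro P' g' hP' hg'
    rw [← hr] at hg'
    obtain ⟨g, rfl⟩ := hg'
    have hPS : preimageAlong θ P' ≤ S := preimageAlong_le
    refine ⟨hP', conjHom _ g, F.conj_mem hPS g.2, hPS, fun x => ?_, fun x => ?_, fun x => ?_⟩
    · exact mul_mem (mul_mem g.2 (hPS x.2)) (inv_mem g.2)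
    · exact (mem_preimageAlong.1 x.2).2
    · show θ g * θ ⟨x, _⟩ * (θ g)⁻¹ = θ ⟨g * x * (g : Ω)⁻¹, _⟩
      rw [← map_inv, ← map_mul, ← map_mul]
      rfl
  · rintro P' Q' φ' ψ' ⟨hP', φ, hφ, hφi⟩ ⟨hQ', ψ, hψ, hψi⟩ h
    have hm := fun x => apply_mem_preimageAlong hφi h x
    refine ⟨hP', ψ.comp (φ.codRestrict _ hm), F.comp_mem hφ hψ hm, preimageAlong_le,
      fun x => (F.le_of_mem hψ).2 _, fun x => (mem_preimageAlong.1 x.2).2, fun x => ?_⟩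
    obtain ⟨hP, hφS, h1, h2⟩ := hφi
    obtain ⟨hQ, hψS, h3, h4⟩ := hψi
    show ψ' ⟨φ' ⟨θ ⟨x, _⟩, _⟩, _⟩ = θ ⟨ψ ⟨φ x, _⟩, _⟩
    rw [← h4 ⟨φ x, hm x⟩]
    congr 1
    exact Subtype.ext (h2 x)
  · rintro P' φ' ⟨hP', φ, hφ, hφi⟩
    have hφi' := hφi
    obtain ⟨hP, hφS, h1, h2⟩ := hφi'
    have hR' : φ'.range ≤ S' := by
      rintro _ ⟨y, rfl⟩
      obtain ⟨x, hx, hxP, hxy⟩ := hpre hP' y y.2
      have h3 := h2 ⟨x, hxP⟩
      have h4 : (⟨θ ⟨x, hP hxP⟩, h1 ⟨x, hxP⟩⟩ : P') = y := Subtype.ext hxy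
      rw [h4] at h3
      rw [h3, ← hr]
      exact ⟨_, rfl⟩
    have hS₀P : S₀ ≤ preimageAlong θ P' := le_preimageAlong hS₀.1 hker
    have hle : preimageAlong θ φ'.range ≤ φ.range := by
      intro y hy
      obtain ⟨hyS, y', hy'⟩ := mem_preimageAlong.1 hy
      obtain ⟨x, hx, hxP, hxy⟩ := hpre hP' y' y'.2
      have h3 := h2 ⟨x, hxP⟩
      have h4 : (⟨θ ⟨x, hP hxP⟩, h1 ⟨x, hxP⟩⟩ : P') = y' := Subtype.ext hxy
      rw [h4, hy'] at h3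
      -- `y ∈ φ x S₀`
      have h5 : θ (⟨φ ⟨x, hxP⟩, hφS _⟩⁻¹ * ⟨y, hyS⟩) = 1 := by
        rw [map_mul, map_inv, ← h3, inv_mul_cancel]
      have h6 := (hker _).1 h5
      obtain ⟨k, hk, h7⟩ := StronglyClosed.exists_preimage hS₀ hφ hS₀P h6
      refine ⟨⟨x, hxP⟩ * ⟨k, hS₀P hk⟩, ?_⟩
      rw [map_mul, h7]
      show φ ⟨x, hxP⟩ * ((φ ⟨x, hxP⟩)⁻¹ * y) = y
      group
    obtain ⟨ψ, hψ, hψi⟩ := exists_inv F hφ hle
    obtain ⟨ψ', hψ'⟩ := exists_induced_of_mem hS₀ hker hr hR' hψ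
    refine ⟨ψ', ⟨hR', ψ, hψ, hψ'⟩, fun y => ?_⟩
    obtain ⟨x, hx, hxP, hxy⟩ := hpre hP' y y.2
    have h3 := h2 ⟨x, hxP⟩
    have h4 : (⟨θ ⟨x, hP hxP⟩, h1 ⟨x, hxP⟩⟩ : P') = y := Subtype.ext hxy
    rw [h4] at h3
    obtain ⟨hR, hψS, h5, h6⟩ := hψ'
    have h7 : φ ⟨x, hxP⟩ ∈ preimageAlong θ φ'.range :=
      mem_preimageAlong.2 ⟨hφS _, by rw [← h3]; exact ⟨y, rfl⟩⟩
    have h8 := h6 ⟨_, h7⟩
    have h9 := hψi ⟨x, hxP⟩ h7
    have h10 : (⟨θ ⟨φ ⟨x, hxP⟩, hR h7⟩, h5 ⟨_, h7⟩⟩ : φ'.range) = ⟨φ' y, ⟨y, rfl⟩⟩ :=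
      Subtype.ext h3.symm
    rw [h10] at h8
    rw [h8, ← hxy]
    congr 1
    exact Subtype.ext h9

section factor

variable {E : FusionSystem S'}

theorem exists_preimage_of_mem (hE : F.IsFactorSystem S₀ θ E) {P' : Subgroup Ω'} (hP' : P' ≤ S') {y : Ω'}
    (hy : y ∈ P') : ∃ (x : Ω) (hx : x ∈ S), x ∈ preimageAlong θ P' ∧ θ ⟨x, hx⟩ = y := by
  have h1 := hP' hy
  rw [← hE.2.2.1] at h1
  obtain ⟨x, rfl⟩ := h1
  exact ⟨x, x.2, mem_preimageAlong.2 ⟨x.2, hy⟩, rfl⟩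

/-- Lift of a map of the factor system. -/
theorem exists_map_of_factor (hE : F.IsFactorSystem S₀ θ E) {P' : Subgroup Ω'} {φ' : P' →* Ω'}
    (hφ' : φ' ∈ E.Hom P') : ∃ φ ∈ F.Hom (preimageAlong θ P'),
      ∀ (x : Ω) (hx : x ∈ preimageAlong θ P') (hxS : x ∈ S) (hx' : θ ⟨x, hxS⟩ ∈ P') (hy : φ ⟨x, hx⟩ ∈ S),
        φ' ⟨θ ⟨x, hxS⟩, hx'⟩ = θ ⟨φ ⟨x, hx⟩, hy⟩ := by
  obtain ⟨-, φ, hφ, hP, h1, h2, h3⟩ := (hE.2.2.2 P' φ').1 hφ'
  exact ⟨φ, hφ, fun x hx hxS hx' hy => h3 ⟨x, hx⟩⟩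

/-- The map of the factor system induced by a map of the system whose source contains `S₀`. -/
theorem exists_factor_map (hS₀ : F.StronglyClosed S₀) (hE : F.IsFactorSystem S₀ θ E) {P : Subgroup Ω}
    {φ : P →* Ω} (hφ : φ ∈ F.Hom P) {P' : Subgroup Ω'} (hP' : P' ≤ S') (hP : preimageAlong θ P' ≤ P) :
    ∃ φ' ∈ E.Hom P', ∀ (x : Ω) (hx : x ∈ P) (hxS : x ∈ S) (hx' : θ ⟨x, hxS⟩ ∈ P')
      (hy : φ ⟨x, hx⟩ ∈ S), φ' ⟨θ ⟨x, hxS⟩, hx'⟩ = θ ⟨φ ⟨x, hx⟩, hy⟩ := by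
  have h1 := res_mem_comp F hφ hP
  obtain ⟨φ', hφ'⟩ := exists_induced_of_mem hS₀ hE.2.1 hE.2.2.1 hP' h1
  refine ⟨φ', (hE.2.2.2 P' φ').2 ⟨hP', _, h1, hφ'⟩, fun x hx hxS hx' hy => ?_⟩
  obtain ⟨hP2, h2, h3, h4⟩ := hφ'
  exact h4 ⟨x, mem_preimageAlong.2 ⟨hxS, hx'⟩⟩

theorem hom_ext_factor (hE : F.IsFactorSystem S₀ θ E) {P' : Subgroup Ω'} (hP' : P' ≤ S')
    {φ' ψ' : P' →* Ω'} (h : ∀ (x : Ω) (hxS : x ∈ S) (hx' : θ ⟨x, hxS⟩ ∈ P'),
      φ' ⟨θ ⟨x, hxS⟩, hx'⟩ = ψ' ⟨θ ⟨x, hxS⟩, hx'⟩) : φ' = ψ' := by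
  ext y
  obtain ⟨x, hx, -, hxy⟩ := exists_preimage_of_mem hE hP' y.2
  have h1 := h x hx (by rw [hxy]; exact y.2)
  have h2 : (⟨θ ⟨x, hx⟩, by rw [hxy]; exact y.2⟩ : P') = y := Subtype.ext hxy
  rwa [h2] at h1

theorem theta_eq_iff (hE : F.IsFactorSystem S₀ θ E) {a b : S} :
    θ a = θ b ↔ (a : Ω)⁻¹ * b ∈ S₀ := by
  rw [← Subgroup.coe_inv, ← Subgroup.coe_mul, ← hE.2.1, map_mul, map_inv, inv_mul_eq_one]

/-- Images in the factor system of strongly closed subgroups are strongly closed. -/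
theorem stronglyClosed_image (hE : F.IsFactorSystem S₀ θ E) {U : Subgroup Ω}
    (hU : F.StronglyClosed U) : E.StronglyClosed (imageAlong θ U) := by
  have hle : imageAlong θ U ≤ S' := by rw [← hE.2.2.1]; exact imageAlong_le_range
  refine ⟨hle, fun R' hR' φ' hφ' y => ?_⟩
  have hR'S : R' ≤ S' := hR'.trans hle
  obtain ⟨φ, hφ, h⟩ := exists_map_of_factor hE hφ'
  obtain ⟨u, hu, huU, huy⟩ := mem_imageAlong.1 (hR' y.2)
  have hupre : u ∈ preimageAlong θ R' := mem_preimageAlong.2 ⟨hu, by rw [huy]; exact y.2⟩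
  have hyS := (F.le_of_mem hφ).2 ⟨u, hupre⟩
  have h1 := h u hupre hu (by rw [huy]; exact y.2) hyS
  have h2 : (⟨θ ⟨u, hu⟩, by rw [huy]; exact y.2⟩ : R') = y := Subtype.ext huy
  rw [h2] at h1
  rw [h1]
  exact mem_imageAlong.2 ⟨_, hyS, StronglyClosed.apply_mem hU hφ huU, rfl⟩

/-- Preimages of strongly closed subgroups of the factor system of a saturated system are strongly closed. -/
theorem stronglyClosed_preimage [Finite S] {p : ℕ} [Fact p.Prime] (hS : IsPGroup p S)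
    (hF : F.IsSaturated p) (hS₀ : F.StronglyClosed S₀)
    (hE : F.IsFactorSystem S₀ θ E) {U' : Subgroup Ω'} (hU' : E.StronglyClosed U') :
    F.StronglyClosed (preimageAlong θ U') := by
  refine ⟨preimageAlong_le, fun R hR φ hφ x => ?_⟩
  obtain ⟨ψ, hψ, h⟩ := exists_lift hS hF hS₀ R φ hφ
  have hRS : R ≤ S := (F.le_of_mem hφ).1
  have hle : imageAlong θ R ≤ S' := by rw [← hE.2.2.1]; exact imageAlong_le_range
  -- `R S₀` is the full preimage of the image of `R`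
  have hpre : preimageAlong θ (imageAlong θ R) ≤ R ⊔ S₀ := by
    intro y hy
    obtain ⟨hyS, hy'⟩ := mem_preimageAlong.1 hy
    obtain ⟨r, hr, hrR, hry⟩ := mem_imageAlong.1 hy'
    have h1 := (theta_eq_iff hE).1 hry
    have h2 : y = r * (r⁻¹ * y) := by group
    rw [h2]
    exact Subgroup.mul_mem_sup hrR h1
  obtain ⟨ψ', hψ', h'⟩ := exists_factor_map hS₀ hE hψ hle hpre
  have hx' : (x : Ω) ∈ R ⊔ S₀ := (le_sup_left : R ≤ R ⊔ S₀) x.2
  have hxi : θ ⟨x, hRS x.2⟩ ∈ imageAlong θ R := mem_imageAlong.2 ⟨x, hRS x.2, x.2, rfl⟩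
  have hyS : ψ ⟨x, hx'⟩ ∈ S := (F.le_of_mem hψ).2 _
  have h1 := h' x hx' (hRS x.2) hxi hyS
  have h2 : ψ' ⟨θ ⟨x, hRS x.2⟩, hxi⟩ ∈ U' := by
    refine StronglyClosed.apply_mem hU' hψ' (x := ⟨θ ⟨x, hRS x.2⟩, hxi⟩) ?_
    exact (mem_preimageAlong.1 (hR x.2)).2
  rw [h1] at h2
  have hφS : φ x ∈ S := (F.le_of_mem hφ).2 x
  refine mem_preimageAlong.2 ⟨hφS, ?_⟩
  have h3 : θ ⟨φ x, hφS⟩ = θ ⟨ψ ⟨x, hx'⟩, hyS⟩ := (theta_eq_iff hE).2 (h x hx')
  rw [h3]; exact h2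

/-- The factor system of a saturated system modulo a strongly closed subgroup is saturated. -/
theorem isSaturated_factor [Finite S] {p : ℕ} [Fact p.Prime] (hS : IsPGroup p S)
    (hF : F.IsSaturated p) (hS₀ : F.StronglyClosed S₀) (hE : F.IsFactorSystem S₀ θ E) :
    E.IsSaturated p := by
  intro P₁' hP₁'
  obtain ⟨Q, ⟨χ, hχ, hχr⟩, hQa, hQr⟩ := hF (preimageAlong θ P₁') preimageAlong_le
  have hQS : Q ≤ S := hQa.1
  have hfQ : Finite Q := Finite.of_injective _ (Subgroup.inclusion_injective hQS)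
  have hS₀n := StronglyClosed.le_normalizer hS₀
  -- `S₀ ≤ Q`
  have hS₀Q : S₀ ≤ Q := by
    intro t ht
    obtain ⟨x, hx, h1⟩ := StronglyClosed.exists_preimage hS₀ hχ (le_preimageAlong hS₀.1 hE.2.1) ht
    rw [← hχr, ← h1]
    exact ⟨_, rfl⟩
  set Q' : Subgroup Ω' := imageAlong θ Q with hQ'
  have hQ'S : Q' ≤ S' := by rw [← hE.2.2.1]; exact imageAlong_le_range
  -- the full preimage of `Q'` is `Q`
  have hpreQ : preimageAlong θ Q' = Q := by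
    apply le_antisymm
    · intro y hy
      obtain ⟨hyS, hy'⟩ := mem_preimageAlong.1 hy
      obtain ⟨r, hr, hrR, hry⟩ := mem_imageAlong.1 hy'
      have h1 := (theta_eq_iff hE).1 hry
      have h2 : y = r * (r⁻¹ * y) := by group
      rw [h2]
      exact mul_mem hrR (hS₀Q h1)
    · intro y hy
      exact mem_preimageAlong.2 ⟨hQS hy, mem_imageAlong.2 ⟨y, hQS hy, hy, rfl⟩⟩
  -- the action on `Q'` of an element of `Aut_F(Q)`
  have hdesc : ∀ α ∈ F.autGroup Q, ∃ α' ∈ E.Hom Q', ∀ (x : Q) (hx' : θ ⟨x, hQS x.2⟩ ∈ Q'),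
      α' ⟨θ ⟨x, hQS x.2⟩, hx'⟩ = θ ⟨(α x : Q), hQS (α x).2⟩ := by
    intro α hα
    obtain ⟨α', hα', h⟩ := exists_factor_map hS₀ hE ((mem_autGroup F hQS).1 hα) hQ'S hpreQ.le
    exact ⟨α', hα', fun x hx' => h x x.2 (hQS x.2) hx' _⟩
  have hmemQ' : ∀ x : Q, θ ⟨x, hQS x.2⟩ ∈ Q' := fun x => mem_imageAlong.2 ⟨x, hQS x.2, x.2, rfl⟩
  have hsurjQ' : ∀ y : Q', ∃ x : Q, θ ⟨x, hQS x.2⟩ = y := by
    intro y
    obtain ⟨x, hx, hxQ, h⟩ := mem_imageAlong.1 y.2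
    exact ⟨⟨x, hxQ⟩, h⟩
  have hauto : ∀ α ∈ F.autGroup Q, ∃ α' : MulAut Q', α' ∈ E.autGroup Q' ∧ ∀ (x : Q),
      ((α' ⟨θ ⟨x, hQS x.2⟩, hmemQ' x⟩ : Q') : Ω') = θ ⟨(α x : Q), hQS (α x).2⟩ := by
    intro α hα
    obtain ⟨α', hα', h⟩ := hdesc α hα
    have hr' : α'.range = Q' := by
      ext y
      constructor
      · rintro ⟨z, rfl⟩
        obtain ⟨x, hx⟩ := hsurjQ' z
        have h1 := h x (hmemQ' x)
        have h2 : (⟨θ ⟨x, hQS x.2⟩, hmemQ' x⟩ : Q') = z := Subtype.ext hx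
        rw [h2] at h1
        rw [h1]
        exact hmemQ' (α x)
      · intro hy
        obtain ⟨x, hx⟩ := hsurjQ' ⟨y, hy⟩
        refine ⟨⟨θ ⟨(α⁻¹ x : Q), hQS (α⁻¹ x).2⟩, hmemQ' _⟩, ?_⟩
        rw [h (α⁻¹ x) (hmemQ' _)]
        have hx2 : θ ⟨x, hQS x.2⟩ = y := hx
        rw [← hx2]
        congr 1
        apply Subtype.ext
        show ((α (α⁻¹ x) : Q) : Ω) = x
        rw [MulAut.apply_inv_self]
    exact ⟨_, isoOf_mem_autGroup E hα' hr', fun x => h x (hmemQ' x)⟩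
  choose! f hfmem hf using hauto
  have hfuniq : ∀ (α : MulAut Q) (_ : α ∈ F.autGroup Q) (β' : MulAut Q'),
      (∀ x : Q, ((β' ⟨θ ⟨x, hQS x.2⟩, hmemQ' x⟩ : Q') : Ω') = θ ⟨(α x : Q), hQS (α x).2⟩) →
      β' = f α := by
    intro α hα β' hβ'
    apply MulEquiv.ext
    intro y
    obtain ⟨x, hx⟩ := hsurjQ' y
    have h2 : (⟨θ ⟨x, hQS x.2⟩, hmemQ' x⟩ : Q') = y := Subtype.ext hx
    rw [← h2]
    exact Subtype.ext ((hβ' x).trans (hf α hα x).symm)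
  let g : F.autGroup Q →* E.autGroup Q' :=
    { toFun := fun α => ⟨f α, hfmem α α.2⟩
      map_one' := by
        apply Subtype.ext
        refine (hfuniq 1 (one_mem _) 1 (fun x => rfl)).symm
      map_mul' := by
        intro α β
        apply Subtype.ext
        refine (hfuniq (α * β) (mul_mem α.2 β.2) (f α * f β) (fun x => ?_)).symm
        rw [MulAut.mul_apply]
        have h1 : f β ⟨θ ⟨x, hQS x.2⟩, hmemQ' x⟩ =
            ⟨θ ⟨((β : MulAut Q) x : Q), hQS ((β : MulAut Q) x).2⟩, hmemQ' ((β : MulAut Q) x)⟩ :=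
          Subtype.ext (hf β β.2 x)
        rw [h1]
        exact hf α α.2 ((β : MulAut Q) x) }
  have hgsurj : Function.Surjective g := by
    rintro ⟨α', hα'⟩
    have hα'm := (mem_autGroup E hQ'S).1 hα'
    obtain ⟨φ, hφ, h⟩ := exists_map_of_factor hE hα'm
    have h1 : Q ≤ preimageAlong θ Q' := hpreQ.ge
    have h2 := res_mem_comp F hφ h1
    have h3 : (φ.comp (Subgroup.inclusion h1)).range = Q := by
      apply Subgroup.eq_of_le_of_card_ge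
      · rintro _ ⟨x, rfl⟩
        show φ ⟨x, h1 x.2⟩ ∈ Q
        have hyS := (F.le_of_mem hφ).2 ⟨x, h1 x.2⟩
        have h4 := h x (h1 x.2) (hQS x.2) (hmemQ' x) hyS
        have h5 : φ ⟨x, h1 x.2⟩ ∈ preimageAlong θ Q' := by
          refine mem_preimageAlong.2 ⟨hyS, ?_⟩
          rw [← h4]
          exact (α' _).2
        exact hpreQ.le h5
      · rw [← Nat.card_congr (MonoidHom.ofInjective (F.injective_of_mem h2)).toEquiv]
    refine ⟨⟨_, isoOf_mem_autGroup F h2 h3⟩, ?_⟩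
    apply Subtype.ext
    refine (hfuniq _ (isoOf_mem_autGroup F h2 h3) α' (fun x => ?_)).symm
    exact h x (h1 x.2) (hQS x.2) (hmemQ' x) ((F.le_of_mem hφ).2 _)
  refine ⟨Q', ?_, ?_, ?_⟩
  · -- conjugacy
    obtain ⟨χ', hχ', h⟩ := exists_factor_map hS₀ hE hχ hP₁' le_rfl
    refine ⟨χ', hχ', ?_⟩
    ext y
    constructor
    · rintro ⟨z, rfl⟩
      obtain ⟨x, hx, hxP, hxz⟩ := exists_preimage_of_mem hE hP₁' z.2
      have h1 := h x hxP hx (by rw [hxz]; exact z.2) ((F.le_of_mem hχ).2 _)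
      have h2 : (⟨θ ⟨x, hx⟩, by rw [hxz]; exact z.2⟩ : P₁') = z := Subtype.ext hxz
      rw [h2] at h1
      rw [h1]
      exact mem_imageAlong.2 ⟨_, (F.le_of_mem hχ).2 ⟨x, hxP⟩, by rw [← hχr]; exact ⟨_, rfl⟩, rfl⟩
    · intro hy
      obtain ⟨q, hq, hqQ, rfl⟩ := mem_imageAlong.1 hy
      have h1 := hqQ
      rw [← hχr] at h1
      obtain ⟨x, rfl⟩ := h1
      obtain ⟨hxS, hx'⟩ := mem_preimageAlong.1 x.2
      refine ⟨⟨θ ⟨x, hxS⟩, hx'⟩, ?_⟩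
      exact h x x.2 hxS hx' hq
  · -- fully automized
    refine ⟨hQ'S, ?_⟩
    obtain ⟨R, hR⟩ := hQa.2
    refine ⟨R.mapSurjective hgsurj, ?_⟩
    rw [Sylow.coe_mapSurjective, hR]
    ext α'
    constructor
    · rintro ⟨α, hα, rfl⟩
      obtain ⟨s, hs, hsα⟩ := mem_autInducedBy.1 (Subgroup.mem_subgroupOf.1 hα)
      refine Subgroup.mem_subgroupOf.2 (mem_autInducedBy.2 ⟨θ ⟨s, hs⟩, ?_, fun y => ?_⟩)
      · rw [← hE.2.2.1]; exact ⟨_, rfl⟩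
      · obtain ⟨x, hx⟩ := hsurjQ' y
        have h2 : (⟨θ ⟨x, hQS x.2⟩, hmemQ' x⟩ : Q') = y := Subtype.ext hx
        rw [← h2]
        show ((f α _ : Q') : Ω') = _
        rw [hf α α.2 x]
        have h3 : (⟨((α : MulAut Q) x : Q), hQS ((α : MulAut Q) x).2⟩ : S) =
            ⟨s, hs⟩ * ⟨x, hQS x.2⟩ * ⟨s, hs⟩⁻¹ := Subtype.ext (hsα x)
        rw [h3, map_mul, map_mul, map_inv]
    · intro hα'
      obtain ⟨s', hs', hsα'⟩ := mem_autInducedBy.1 (Subgroup.mem_subgroupOf.1 hα')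
      rw [← hE.2.2.1] at hs'
      obtain ⟨s, rfl⟩ := hs'
      -- `s` normalizes `Q`
      have hsn : (s : Ω) ∈ Subgroup.normalizer (Q : Set Ω) := by
        have hmaps : ∀ x ∈ Q, (s : Ω) * x * (s : Ω)⁻¹ ∈ Q := by
          intro x hx
          rw [← hpreQ]
          refine mem_preimageAlong.2 ⟨mul_mem (mul_mem s.2 (hQS hx)) (inv_mem s.2), ?_⟩
          have h1 := hsα' ⟨θ ⟨x, hQS hx⟩, hmemQ' ⟨x, hx⟩⟩
          have h2 : θ ⟨(s : Ω) * x * (s : Ω)⁻¹, mul_mem (mul_mem s.2 (hQS hx)) (inv_mem s.2)⟩ =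
            θ s * θ ⟨x, hQS hx⟩ * (θ s)⁻¹ := by
            rw [← map_inv, ← map_mul, ← map_mul]; rfl
          rw [h2, ← h1]
          exact ((α' : MulAut Q') _).2
        have hinj : Function.Injective (conjHom Q (s : Ω)) :=
          F.injective_of_mem (F.conj_mem hQS s.2)
        have hrange : (conjHom Q (s : Ω)).range = Q := by
          apply Subgroup.eq_of_le_of_card_ge
          · rintro _ ⟨x, rfl⟩
            exact hmaps x x.2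
          · rw [← Nat.card_congr (MonoidHom.ofInjective hinj).toEquiv]
        rw [Subgroup.mem_normalizer_iff]
        intro x
        refine ⟨hmaps x, fun hx => ?_⟩
        rw [← hrange] at hx
        obtain ⟨y, hy⟩ := hx
        have h3 : (s : Ω) * y * (s : Ω)⁻¹ = s * x * (s : Ω)⁻¹ := hy
        have h4 : (y : Ω) = x := mul_left_cancel (mul_right_cancel h3)
        rw [← h4]; exact y.2
      refine ⟨⟨conjAut Q s hsn, autGroup_map F (conj_mem' F hQS s.2 (fun x => rfl))⟩, ?_, ?_⟩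
      · exact Subgroup.mem_subgroupOf.2 (mem_autInducedBy.2 ⟨s, s.2, fun x => rfl⟩)
      · apply Subtype.ext
        refine (hfuniq _ (autGroup_map F (conj_mem' F hQS s.2 (fun x => rfl))) _
          (fun x => ?_)).symm
        rw [hsα' ⟨θ ⟨x, hQS x.2⟩, hmemQ' x⟩]
        rw [← map_inv, ← map_mul, ← map_mul]
        rfl
  · -- receptive
    refine ⟨hQ'S, fun P' φ' hφ' hr' => ?_⟩
    have hP'S : P' ≤ S' := (E.le_of_mem hφ').1
    set P := preimageAlong θ P' with hP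
    obtain ⟨φ, hφ, h⟩ : ∃ φ ∈ F.Hom P,
      ∀ (x : Ω) (hx : x ∈ P) (hxS : x ∈ S) (hx' : θ ⟨x, hxS⟩ ∈ P') (hy : φ ⟨x, hx⟩ ∈ S),
        φ' ⟨θ ⟨x, hxS⟩, hx'⟩ = θ ⟨φ ⟨x, hx⟩, hy⟩ := exists_map_of_factor hE hφ'
    have hPS : P ≤ S := preimageAlong_le
    have hfP : Finite P := Finite.of_injective _ (Subgroup.inclusion_injective hPS)
    have hφS : ∀ x : P, φ x ∈ S := (F.le_of_mem hφ).2
    have hP' : ∀ x : P, θ ⟨x, hPS x.2⟩ ∈ P' := fun x => (mem_preimageAlong.1 x.2).2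
    have hS₀P : S₀ ≤ P := le_preimageAlong hS₀.1 hE.2.1
    have hφ2 : ∀ x : P, φ' ⟨θ ⟨x, hPS x.2⟩, hP' x⟩ = θ ⟨φ x, hφS x⟩ :=
      fun x => h x x.2 (hPS x.2) (hP' x) (hφS x)
    have hr : φ.range = Q := by
      ext y
      constructor
      · rintro ⟨x, rfl⟩
        rw [← hpreQ]
        refine mem_preimageAlong.2 ⟨hφS x, ?_⟩
        rw [← hφ2 x, ← hr']
        exact ⟨_, rfl⟩
      · intro hy
        have h1 : θ ⟨y, hQS hy⟩ ∈ φ'.range := by rw [hr']; exact hmemQ' ⟨y, hy⟩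
        obtain ⟨z, hz⟩ := h1
        obtain ⟨x, hx, hxP, hxz⟩ := exists_preimage_of_mem hE hP'S z.2
        have h2 := hφ2 ⟨x, hxP⟩
        have h3 : (⟨θ ⟨x, hPS hxP⟩, hP' ⟨x, hxP⟩⟩ : P') = z := Subtype.ext hxz
        rw [h3, hz] at h2
        have h4 := (theta_eq_iff hE).1 h2.symm
        obtain ⟨k, hk, h7⟩ := StronglyClosed.exists_preimage hS₀ hφ hS₀P h4
        refine ⟨⟨x, hxP⟩ * ⟨k, hS₀P hk⟩, ?_⟩
        rw [map_mul, h7]
        show φ ⟨x, hxP⟩ * ((φ ⟨x, hxP⟩)⁻¹ * y) = y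
        group
    -- the extender
    set N' := extender S' P' φ' with hN'
    have hN'S : N' ≤ S' := fun g hg => (mem_extender.1 hg).1
    set N := preimageAlong θ N' with hN
    have hNS : N ≤ S := preimageAlong_le
    have hNn : N ≤ Subgroup.normalizer (P : Set Ω) := by
      intro g hg
      obtain ⟨hgS, hg'⟩ := mem_preimageAlong.1 hg
      have hgn := (mem_extender.1 hg').2.1
      rw [Subgroup.mem_normalizer_iff]
      intro x
      constructor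
      · intro hx
        have hxS := hPS hx
        refine mem_preimageAlong.2 ⟨mul_mem (mul_mem hgS hxS) (inv_mem hgS), ?_⟩
        have h2 : θ ⟨g * x * g⁻¹, mul_mem (mul_mem hgS hxS) (inv_mem hgS)⟩ =
            θ ⟨g, hgS⟩ * θ ⟨x, hxS⟩ * (θ ⟨g, hgS⟩)⁻¹ := by
          rw [← map_inv, ← map_mul, ← map_mul]; rfl
        rw [h2]
        exact (Subgroup.mem_normalizer_iff.1 hgn _).1 (hP' ⟨x, hx⟩)
      · intro hx
        obtain ⟨hxS, hx'⟩ := mem_preimageAlong.1 hx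
        have hxS' : x ∈ S := by
          have h3 := mul_mem (mul_mem (inv_mem hgS) hxS) hgS
          have h4 : g⁻¹ * (g * x * g⁻¹) * g = x := by group
          rwa [h4] at h3
        refine mem_preimageAlong.2 ⟨hxS', ?_⟩
        have h2 : θ ⟨g * x * g⁻¹, hxS⟩ = θ ⟨g, hgS⟩ * θ ⟨x, hxS'⟩ * (θ ⟨g, hgS⟩)⁻¹ := by
          rw [← map_inv, ← map_mul, ← map_mul]; rfl
        rw [h2] at hx'
        exact (Subgroup.mem_normalizer_iff.1 hgn _).2 hx'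
    -- the kernel
    let K : Subgroup (MulAut Q) :=
      { carrier := {κ | κ ∈ F.autGroup Q ∧ ∀ x : Q, (x : Ω)⁻¹ * (κ x : Q) ∈ S₀}
        one_mem' := ⟨one_mem _, fun x => by simp⟩
        mul_mem' := by
          rintro a b ⟨ha, ha'⟩ ⟨hb, hb'⟩
          refine ⟨mul_mem ha hb, fun x => ?_⟩
          rw [MulAut.mul_apply]
          have h1 : (x : Ω)⁻¹ * (a (b x) : Q) = ((x : Ω)⁻¹ * (b x : Q)) *
            (((b x : Q) : Ω)⁻¹ * (a (b x) : Q)) := by group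
          rw [h1]
          exact mul_mem (hb' x) (ha' _)
        inv_mem' := by
          rintro a ⟨ha, ha'⟩
          refine ⟨inv_mem ha, fun x => ?_⟩
          have h1 := ha' (a⁻¹ x)
          rw [MulAut.apply_inv_self] at h1
          have h2 := inv_mem h1
          simpa using h2 }
    have hKA : K ≤ F.autGroup Q := fun k hk => hk.1
    have hKn : ∀ a ∈ F.autGroup Q, ∀ k ∈ K, a * k * a⁻¹ ∈ K := by
      rintro a ha k ⟨hk, hk'⟩
      refine ⟨mul_mem (mul_mem ha hk) (inv_mem ha), fun x => ?_⟩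
      have h1 := hk' (a⁻¹ x)
      have ham := (mem_autGroup F hQS).1 ha
      have h2 : ((a ((a⁻¹ x)⁻¹ * k (a⁻¹ x)) : Q) : Ω) ∈ S₀ :=
        StronglyClosed.apply_mem hS₀ ham (x := (a⁻¹ x)⁻¹ * k (a⁻¹ x)) h1
      rw [map_mul, map_inv, MulAut.apply_inv_self] at h2
      exact h2
    set e : P ≃* Q := isoOf φ (F.injective_of_mem hφ) hr with he
    obtain ⟨κ, hκ, ψ, hψ, hψe⟩ := exists_extension F hS hQa hQr hφ hr K hKA hKn N hNS hNn (by
      intro g hg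
      obtain ⟨hgS, hg'⟩ := mem_preimageAlong.1 hg
      obtain ⟨-, hgn', h', hh', hgh⟩ := mem_extender.1 hg'
      rw [← hE.2.2.1] at hh'
      obtain ⟨s, rfl⟩ := hh'
      -- `θ (φ (g x g⁻¹)) = θ (s φ x s⁻¹)`
      have hgx : ∀ x : P, g * (x : Ω) * g⁻¹ ∈ P := fun x =>
        (Subgroup.mem_normalizer_iff.1 (hNn hg) x).1 x.2
      have hθ : ∀ x : P, θ ⟨φ ⟨g * x * g⁻¹, hgx x⟩, hφS _⟩ =
          θ ⟨(s : Ω) * φ x * (s : Ω)⁻¹, mul_mem (mul_mem s.2 (hφS x)) (inv_mem s.2)⟩ := by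
        intro x
        have h1 : θ ⟨g * x * g⁻¹, hPS (hgx x)⟩ = θ ⟨g, hgS⟩ * θ ⟨x, hPS x.2⟩ * (θ ⟨g, hgS⟩)⁻¹ := by
          rw [← map_inv, ← map_mul, ← map_mul]; rfl
        have h2 := hP' ⟨g * x * g⁻¹, hgx x⟩
        have h2' : θ ⟨g, hgS⟩ * θ ⟨x, hPS x.2⟩ * (θ ⟨g, hgS⟩)⁻¹ ∈ P' := by rw [← h1]; exact h2
        have h3 := hgh ⟨θ ⟨x, hPS x.2⟩, hP' x⟩ h2'
        have h4 : (⟨θ ⟨g, hgS⟩ * θ ⟨x, hPS x.2⟩ * (θ ⟨g, hgS⟩)⁻¹, h2'⟩ : P') =
          ⟨θ ⟨g * x * g⁻¹, hPS (hgx x)⟩, h2⟩ := Subtype.ext h1.symm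
        have h5 := hφ2 ⟨g * x * g⁻¹, hgx x⟩
        have h6 : φ' ⟨θ ⟨g * x * g⁻¹, hPS (hgx x)⟩, h2⟩ = θ ⟨φ ⟨g * x * g⁻¹, hgx x⟩, hφS _⟩ := h5
        rw [← h6, ← h4, h3, hφ2 x, ← map_inv, ← map_mul, ← map_mul]
        rfl
      have hsn : (s : Ω) ∈ Subgroup.normalizer (Q : Set Ω) := by
        have hmaps : ∀ x ∈ Q, (s : Ω) * x * (s : Ω)⁻¹ ∈ Q := by
          intro y hy
          obtain ⟨x, hx⟩ := e.surjective ⟨y, hy⟩
          have hx' : φ x = y := congrArg Subtype.val hx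
          have h1 := hθ x
          have h2 := (theta_eq_iff hE).1 h1
          have h3 : (s : Ω) * y * (s : Ω)⁻¹ = φ ⟨g * x * g⁻¹, hgx x⟩ *
            ((φ ⟨g * x * g⁻¹, hgx x⟩)⁻¹ * ((s : Ω) * φ x * (s : Ω)⁻¹)) := by
            rw [← hx']; group
          rw [h3]
          refine mul_mem ?_ (hS₀Q h2)
          rw [← hr]; exact ⟨_, rfl⟩
        have hinj : Function.Injective (conjHom Q (s : Ω)) :=
          F.injective_of_mem (F.conj_mem hQS s.2)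
        have hrange : (conjHom Q (s : Ω)).range = Q := by
          apply Subgroup.eq_of_le_of_card_ge
          · rintro _ ⟨x, rfl⟩
            exact hmaps x x.2
          · rw [← Nat.card_congr (MonoidHom.ofInjective hinj).toEquiv]
        rw [Subgroup.mem_normalizer_iff]
        intro x
        refine ⟨hmaps x, fun hx => ?_⟩
        rw [← hrange] at hx
        obtain ⟨y, hy⟩ := hx
        have h3 : (s : Ω) * y * (s : Ω)⁻¹ = s * x * (s : Ω)⁻¹ := hy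
        have h4 : (y : Ω) = x := mul_left_cancel (mul_right_cancel h3)
        rw [← h4]; exact y.2
      -- the element of `K`
      let τ : MulAut Q := ((MulAut.congr e) (conjAut P g (hNn hg))) * (conjAut Q s hsn)⁻¹
      have hτ1 : ∀ x : P, ((((MulAut.congr e) (conjAut P g (hNn hg))) (e x) : Q) : Ω) =
          φ ⟨g * x * g⁻¹, hgx x⟩ := by
        intro x
        show ((e (conjAut P g (hNn hg) (e.symm (e x))) : Q) : Ω) = _
        rw [MulEquiv.symm_apply_apply]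
        rfl
      have hcongr : (MulAut.congr e) (conjAut P g (hNn hg)) ∈ F.autGroup Q := by
        apply autGroup_map
        obtain ⟨χi, hχi, hi⟩ := exists_inv F hφ (R := Q) (by rw [hr])
        have h1 : (conjHom P g).comp e.symm.toMonoidHom ∈ F.Hom Q := by
          refine comp_mem' F hχi (F.conj_mem (P := P) hPS hgS) (fun y => ?_)
          obtain ⟨x, rfl⟩ := e.surjective y
          have h2 := hi x (e x).2
          have h3 : χi (e x) = x := h2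
          refine ⟨by rw [h3]; exact x.2, ?_⟩
          show conjHom P g (e.symm (e x)) = _
          rw [MulEquiv.symm_apply_apply]
          congr 1
          exact Subtype.ext h3.symm
        refine comp_mem' F h1 hφ (fun y => ⟨?_, rfl⟩)
        exact hgx (e.symm y)
      have hcs : conjAut Q s hsn ∈ F.autGroup Q :=
        autGroup_map F (conj_mem' F hQS s.2 (fun x => rfl))
      have hτval : ∀ x : P, ∀ hy : (s : Ω) * φ x * (s : Ω)⁻¹ ∈ Q,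
          ((τ ⟨(s : Ω) * φ x * (s : Ω)⁻¹, hy⟩ : Q) : Ω) = φ ⟨g * x * g⁻¹, hgx x⟩ := by
        intro x hy
        have h1 : (⟨(s : Ω) * φ x * (s : Ω)⁻¹, hy⟩ : Q) = conjAut Q s hsn (e x) := Subtype.ext rfl
        rw [h1]
        show ((((MulAut.congr e) (conjAut P g (hNn hg))) ((conjAut Q s hsn)⁻¹
          (conjAut Q s hsn (e x))) : Q) : Ω) = _
        rw [MulAut.inv_apply_self]
        exact hτ1 x
      refine ⟨τ, ⟨mul_mem hcongr (inv_mem hcs), fun y => ?_⟩, s, s.2, hsn, fun x hx hy => ?_⟩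
      · obtain ⟨z, hz⟩ := (conjAut Q s hsn).surjective y
        obtain ⟨x, hx⟩ := e.surjective z
        have hy : (y : Ω) = (s : Ω) * φ x * (s : Ω)⁻¹ := by
          rw [← hz, ← hx]; rfl
        have hy' : (s : Ω) * φ x * (s : Ω)⁻¹ ∈ Q := by rw [← hy]; exact y.2
        have h1 : y = ⟨(s : Ω) * φ x * (s : Ω)⁻¹, hy'⟩ := Subtype.ext hy
        have h2 : ((τ y : Q) : Ω) = φ ⟨g * x * g⁻¹, hgx x⟩ := by
          rw [h1]; exact hτval x hy'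
        rw [h2, hy]
        exact (theta_eq_iff hE).1 (hθ x).symm
      · exact (hτval x hy).symm)
    -- descend
    have hPN : P ≤ N := by
      have h1 : P' ≤ N' := by
        intro a ha
        rw [hN', mem_extender]
        refine ⟨hP'S ha, Subgroup.le_normalizer ha, φ' ⟨a, ha⟩, (E.le_of_mem hφ').2 _,
          fun x hx => ?_⟩
        have : (⟨a * x * a⁻¹, hx⟩ : P') = ⟨a, ha⟩ * x * ⟨a, ha⟩⁻¹ := Subtype.ext rfl
        rw [this, map_mul, map_mul, map_inv]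
      exact preimageAlong_mono h1
    have hle : N ≤ P ⊔ N := le_sup_right
    obtain ⟨ψ', hψ', hψ'e⟩ := exists_factor_map hS₀ hE hψ hN'S hle
    refine ⟨ψ', hψ', fun y hyP hyN => ?_⟩
    obtain ⟨x, hx, hxP, hxy⟩ := exists_preimage_of_mem hE hP'S hyP
    subst hxy
    have hxN : x ∈ P ⊔ N := hle (hPN hxP)
    have hyS : ψ ⟨x, hxN⟩ ∈ S := (F.le_of_mem hψ).2 _
    rw [hψ'e x hxN hx hyN hyS]
    have h1 := hφ2 ⟨x, hxP⟩
    rw [show φ' ⟨θ ⟨x, hx⟩, hyP⟩ = θ ⟨φ ⟨x, hxP⟩, hφS _⟩ from h1]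
    have h2 := hψe ⟨x, hxP⟩ (by rw [← hr]; exact ⟨_, rfl⟩) hxN
    rw [theta_eq_iff hE]
    show (ψ ⟨x, hxN⟩)⁻¹ * φ ⟨x, hxP⟩ ∈ S₀
    rw [h2]
    have h3 := inv_mem (hκ.2 ⟨φ ⟨x, hxP⟩, by rw [← hr]; exact ⟨_, rfl⟩⟩)
    simpa using h3

end factor

end Cfsg.Agent.H759
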