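import Cfsg.Agent.H759.ResChain
import Cfsg.Agent.H781.Realized
import Cfsg.Agent.H973.FusMorph
import Cfsg.Agent.S5093
import Cfsg.Agent.TwoFusion.PResidual
import Cfsg.Agent.H239.CharPLocal
import Cfsg.Agent.Lib.PSolvable
set_option linter.all false

-- part: H759/ResModel
section
/-!
# Models of residual subsystems (helper759)

If `G` is a model of `F`, then the subgroup `O^{p'}(G)` generated by the `p`-elements is a model of `O^{p'}(F)`, and
`O^p(G)` is a model of `O^p(F)`.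
-/

set_option autoImplicit false

namespace Cfsg.Agent.H759

open Cfsg Cfsg.FusionSystem

/-- The subgroup generated by the elements of `p`-power order. -/
def pEl (p : ℕ) (G : Type*) [Group G] : Subgroup G := Subgroup.closure {g : G | ∃ k : ℕ, orderOf g = p ^ k}

theorem mem_pEl {p : ℕ} {G : Type*} [Group G] {g : G} {k : ℕ} (h : orderOf g = p ^ k) : g ∈ pEl p G :=
  Subgroup.subset_closure ⟨k, h⟩

instance pEl_normal (p : ℕ) (G : Type*) [Group G] : (pEl p G).Normal := by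
  refine ⟨fun n hn g => ?_⟩
  refine Subgroup.closure_induction (p := fun x _ => g * x * g⁻¹ ∈ pEl p G) ?_ ?_ ?_ ?_ hn
  · rintro x ⟨k, hk⟩
    refine Subgroup.subset_closure ⟨k, ?_⟩
    rw [← hk]
    exact orderOf_injective (MulAut.conj g).toMonoidHom (MulAut.conj g).injective x
  · simp
  · intro x y _ _ hx hy
    have : g * (x * y) * g⁻¹ = (g * x * g⁻¹) * (g * y * g⁻¹) := by group
    rw [this]
    exact mul_mem hx hy
  · intro x _ hx
    have : g * x⁻¹ * g⁻¹ = (g * x * g⁻¹)⁻¹ := by group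
    rw [this]
    exact inv_mem hx

theorem isPGroup_le_pEl {p : ℕ} {G : Type*} [Group G] [Finite G] [Fact p.Prime] {R : Subgroup G} (hR : IsPGroup p R) :
    R ≤ pEl p G := by
  intro x hx
  obtain ⟨k, hk⟩ := (IsPGroup.iff_orderOf.1 hR) ⟨x, hx⟩
  refine mem_pEl (k := k) ?_
  rw [← hk, Subgroup.orderOf_mk]

section act

variable {Ω : Type*} [Group Ω] {S T : Subgroup Ω} {F : FusionSystem S} {G : Type*} [Group G] {ι : S →* G}

/-- The pairs `(α, g)` with `α` induced by `g` through `ι`. -/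
def actSub (ι : S →* G) {P : Subgroup Ω} (hP : P ≤ S) : Subgroup (MulAut P × G) where
  carrier := {a | ∀ x : P, ι ⟨a.1 x, hP (a.1 x).2⟩ = a.2 * ι ⟨x, hP x.2⟩ * a.2⁻¹}
  one_mem' := by
    intro x
    simp
  mul_mem' := by
    intro a b ha hb x
    have h1 := ha (b.1 x)
    have h2 := hb x
    show ι ⟨a.1 (b.1 x), _⟩ = a.2 * b.2 * _ * (a.2 * b.2)⁻¹
    rw [h1, h2]
    group
  inv_mem' := by
    intro a ha x
    have h1 := ha (a.1⁻¹ x)
    rw [MulAut.apply_inv_self] at h1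
    show ι ⟨a.1⁻¹ x, _⟩ = a.2⁻¹ * _ * a.2⁻¹⁻¹
    rw [h1]
    group

theorem mem_actSub {P : Subgroup Ω} {hP : P ≤ S} {α : MulAut P} {g : G} :
    (α, g) ∈ actSub ι hP ↔ ∀ x : P, ι ⟨α x, hP (α x).2⟩ = g * ι ⟨x, hP x.2⟩ * g⁻¹ := Iff.rfl

/-- A realized automorphism of `p`-power order is realized by a `p`-element. -/
theorem exists_pElement [Finite G] {p : ℕ} [Fact p.Prime] {P : Subgroup Ω} [Finite P] {hP : P ≤ S}
    {α : MulAut P} {g : G} (h : (α, g) ∈ actSub ι hP) {k : ℕ} (hα : orderOf α = p ^ k) :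
    ∃ g' : G, (α, g') ∈ actSub ι hP ∧ ∃ j : ℕ, orderOf g' = p ^ j := by
  have hp : p.Prime := Fact.out
  obtain ⟨a, b, hab, ⟨j, hj⟩, hb⟩ := TwoFusion.PResidual.exists_pPart_mul_pPrimePart p (α, g)
  have h1 : (α ^ b) = 1 := by
    have h2 : orderOf (α ^ b) ∣ orderOf (α, g).1 := orderOf_dvd_of_mem_zpowers ⟨b, rfl⟩
    have h3 : orderOf (α ^ b) ∣ orderOf ((α, g) ^ b) := by
      have := orderOf_map_dvd (MonoidHom.fst (MulAut P) G) ((α, g) ^ b)
      rw [map_zpow] at this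
      exact this
    rw [← orderOf_eq_one_iff]
    refine Nat.Coprime.eq_one_of_dvd ?_ h2
    rw [hα]
    exact (Nat.Coprime.coprime_dvd_left h3 hb).pow_right k
  have h2 : α = α ^ a := by
    have h3 := congrArg Prod.fst hab
    have h4 : α = α ^ a * α ^ b := h3
    rwa [h1, mul_one] at h4
  refine ⟨g ^ a, ?_, ?_⟩
  · have h3 := zpow_mem h a
    have h4 : (α, g) ^ a = (α, g ^ a) := Prod.ext h2.symm rfl
    rwa [h4] at h3
  · have h3 : orderOf (g ^ a) ∣ p ^ j := by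
      rw [← hj]
      have := orderOf_map_dvd (MonoidHom.snd (MulAut P) G) ((α, g) ^ a)
      rw [map_zpow] at this
      exact this
    obtain ⟨i, -, hi⟩ := (Nat.dvd_prime_pow hp).1 h3
    exact ⟨i, hi⟩

/-- A realized automorphism of order prime to `p` is realized by an element of order prime to `p`. -/
theorem exists_pPrimeElement [Finite G] {p : ℕ} [Fact p.Prime] {P : Subgroup Ω} [Finite P] {hP : P ≤ S}
    {α : MulAut P} {g : G} (h : (α, g) ∈ actSub ι hP) (hα : Nat.Coprime (orderOf α) p) :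
    ∃ g' : G, (α, g') ∈ actSub ι hP ∧ Nat.Coprime (orderOf g') p := by
  have hp : p.Prime := Fact.out
  obtain ⟨a, b, hab, ⟨j, hj⟩, hb⟩ := TwoFusion.PResidual.exists_pPart_mul_pPrimePart p (α, g)
  have h1 : (α ^ a) = 1 := by
    have h2 : orderOf (α ^ a) ∣ orderOf (α, g).1 := orderOf_dvd_of_mem_zpowers ⟨a, rfl⟩
    have h3 : orderOf (α ^ a) ∣ orderOf ((α, g) ^ a) := by
      have := orderOf_map_dvd (MonoidHom.fst (MulAut P) G) ((α, g) ^ a)
      rw [map_zpow] at this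
      exact this
    rw [hj] at h3
    rw [← orderOf_eq_one_iff]
    refine Nat.Coprime.eq_one_of_dvd ?_ h3
    exact (Nat.Coprime.coprime_dvd_left h2 hα).pow_right j
  have h2 : α = α ^ b := by
    have h3 := congrArg Prod.fst hab
    have h4 : α = α ^ a * α ^ b := h3
    rwa [h1, one_mul] at h4
  refine ⟨g ^ b, ?_, ?_⟩
  · have h3 := zpow_mem h b
    have h4 : (α, g) ^ b = (α, g ^ b) := Prod.ext h2.symm rfl
    rwa [h4] at h3
  · refine Nat.Coprime.coprime_dvd_left ?_ hb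
    have := orderOf_map_dvd (MonoidHom.snd (MulAut P) G) ((α, g) ^ b)
    rw [map_zpow] at this
    exact this

theorem exists_of_mem_autGroup (h : F.IsRealizedBy ι) {P : Subgroup Ω} (hP : P ≤ S) {α : MulAut P}
    (hα : α ∈ F.autGroup P) : ∃ g : G, (α, g) ∈ actSub ι hP := by
  have h1 := (mem_autGroup F hP).1 hα
  obtain ⟨g, hg⟩ := (h.2 P hP _ (fun x => hP (α x).2)).1 h1
  exact ⟨g, hg⟩

theorem mem_autGroup_of_actSub (h : F.IsRealizedBy ι) {P : Subgroup Ω} (hP : P ≤ S) {α : MulAut P} {g : G}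
    (hg : (α, g) ∈ actSub ι hP) : α ∈ F.autGroup P :=
  (mem_autGroup F hP).2 ((h.2 P hP _ (fun x => hP (α x).2)).2 ⟨g, hg⟩)

end act

section core

variable {Ω : Type*} [Group Ω] {S : Subgroup Ω} {F : FusionSystem S} {G : Type*} [Group G] {ι : S →* G} {p : ℕ}

/-- The preimage of `O_p(G)` in `S`, with the action of `G` on it. -/
theorem exists_core_action [Finite G] [Fact p.Prime] (hG : F.IsModel p G ι) :
    ∃ (Q : Subgroup Ω) (hQ : Q ≤ S) (ρ : G →* MulAut Q), (∀ s : S, (s : Ω) ∈ Q ↔ ι s ∈ pCore p G) ∧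
      (∀ y ∈ pCore p G, ∃ x : Q, ι ⟨x, hQ x.2⟩ = y) ∧
      (∀ (g : G), (ρ g, g) ∈ actSub ι hQ) ∧ F.IsNormal Q := by
  obtain ⟨_, hreal, ⟨R, hR⟩, hC⟩ := hG
  have hnorm : (pCore p G).Normal := H794.pCore_normal G p
  have hcore_le : pCore p G ≤ ι.range := by
    rw [← hR]
    exact H794.pCore_le_sylow R
  set Q : Subgroup Ω := ((pCore p G).comap ι).map S.subtype with hQdef
  have hQS : Q ≤ S := Subgroup.map_subtype_le _
  have hQm : ∀ s : S, (s : Ω) ∈ Q ↔ ι s ∈ pCore p G := by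
    intro s
    constructor
    · rintro ⟨t, ht, hts⟩
      have : t = s := Subtype.ext hts
      rw [← this]; exact ht
    · intro hs
      exact ⟨s, hs, rfl⟩
  have hQs : ∀ y ∈ pCore p G, ∃ x : Q, ι ⟨x, hQS x.2⟩ = y := by
    intro y hy
    obtain ⟨s, rfl⟩ := hcore_le hy
    exact ⟨⟨s, (hQm s).2 hy⟩, rfl⟩
  let j : Q →* G := ι.comp (Subgroup.inclusion hQS)
  have hj : Function.Injective j := hreal.1.comp (Subgroup.inclusion_injective hQS)
  have hjr : j.range = pCore p G := by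
    ext y
    constructor
    · rintro ⟨x, rfl⟩
      exact (hQm ⟨x, hQS x.2⟩).1 x.2
    · intro hy
      obtain ⟨x, hx⟩ := hQs y hy
      exact ⟨x, hx⟩
  let e : Q ≃* pCore p G := (MonoidHom.ofInjective hj).trans (MulEquiv.subgroupCongr hjr)
  have he : ∀ x : Q, ((e x : pCore p G) : G) = ι ⟨x, hQS x.2⟩ := fun x => rfl
  let ρ : G →* MulAut Q := (MulAut.congr e.symm).toMonoidHom.comp MulAut.conjNormal
  have hρ : ∀ (g : G), (ρ g, g) ∈ actSub ι hQS := by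
    intro g x
    show ι ⟨ρ g x, _⟩ = g * ι ⟨x, _⟩ * g⁻¹
    rw [← he (ρ g x), ← he x]
    have h1 : ρ g x = e.symm (MulAut.conjNormal g (e x)) := rfl
    rw [h1, MulEquiv.apply_symm_apply]
    rfl
  have hn : F.IsNormal Q := by
    refine H973.isNormal_of_realized hreal hQS (N := pCore p G) ?_
    rw [hQdef, Subgroup.subgroupOf, Subgroup.comap_map_eq_self_of_injective S.subtype_injective,
      Subgroup.map_comap_eq, inf_eq_right.2 hcore_le]
  exact ⟨Q, hQS, ρ, hQm, hQs, hρ, hn⟩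

/-- Conjugation by an element of `O^{p'}(G)` is a map of every saturated subsystem of index prime to `p`. -/
theorem mem_hom_of_pEl [Finite S] [Fact p.Prime] (hG : F.IsModel p G ι) {E : FusionSystem S}
    (hE : E.IsSaturated p) (hEi : E.HasPrimeToPIndexIn F p) {P : Subgroup Ω} (hP : P ≤ S) {φ : P →* Ω}
    (hφ : ∀ x, φ x ∈ S) {h : G} (hh : h ∈ pEl p G) (hφh : ∀ x : P, ι ⟨φ x, hφ x⟩ = h * ι ⟨x, hP x.2⟩ * h⁻¹) :
    φ ∈ E.Hom P := by
  have hfG : Finite G := hG.1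
  obtain ⟨Q, hQS, ρ, hQm, hQs, hρ, hQn⟩ := exists_core_action hG
  obtain ⟨_, hreal, ⟨R, hR⟩, hC⟩ := hG
  have hfQ : Finite Q := H802.finite_of_le hQS
  -- elements of `O^{p'}(G)` induce automorphisms of `E` on `Q`
  have hA : pEl p G ≤ (E.autGroup Q).comap ρ := by
    refine (Subgroup.closure_le _).2 ?_
    rintro g ⟨k, hk⟩
    have h1 : ρ g ∈ F.autGroup Q := mem_autGroup_of_actSub hreal hQS (hρ g)
    have h2 : orderOf (ρ g) ∣ p ^ k := by
      rw [← hk]; exact orderOf_map_dvd ρ g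
    obtain ⟨i, -, hi⟩ := (Nat.dvd_prime_pow (Fact.out : p.Prime)).1 h2
    refine hEi.2 Q hQS ⟨⟨ρ g, h1⟩, Subgroup.subset_closure ⟨i, ?_⟩, rfl⟩
    rw [Subgroup.orderOf_mk]; exact hi
  have hρh : ρ h ∈ E.autGroup Q := hA hh
  have hQscF : F.StronglyClosed Q := IsNormal.stronglyClosed hQn
  have hQscE : E.StronglyClosed Q := ⟨hQS, fun R hR φ hφ => hQscF.2 R hR φ (hEi.1 R hφ)⟩
  obtain ⟨-, hrec⟩ := H752.automized_receptive_of_stronglyClosed hE hQscE
  have hρE : Q.subtype.comp (ρ h).toMonoidHom ∈ E.Hom Q := (mem_autGroup E hQS).1 hρh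
  obtain ⟨N, hN⟩ : ∃ N, N = extender S Q (Q.subtype.comp (ρ h).toMonoidHom) := ⟨_, rfl⟩
  obtain ⟨ψ, hψ, hψe⟩ : ∃ ψ ∈ E.Hom N, ∀ (x : Ω) (hQ : x ∈ Q) (hN : x ∈ N),
      ψ ⟨x, hN⟩ = (ρ h ⟨x, hQ⟩ : Q) := by
    rw [hN]
    exact hrec.2 Q _ hρE (H802.range_eq_of_mapsTo hρE (fun x => (ρ h x).2))
  have hNS : N ≤ S := hN ▸ H802.extender_le S Q _
  have hQN : Q ≤ N := by
    rw [hN]
    exact H802.le_extender hQS (fun x => hQS ((ρ h) x).2)
  have hPN : P ≤ N := by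
    intro y hy
    rw [hN, H802.mem_extender_iff]
    have hyn : y ∈ Subgroup.normalizer (Q : Set Ω) :=
      StronglyClosed.le_normalizer hQscF (hP hy)
    refine ⟨hP hy, hyn, φ ⟨y, hy⟩, hφ _, fun x hx => ?_⟩
    show ((ρ h ⟨y * x * y⁻¹, hx⟩ : Q) : Ω) = φ ⟨y, hy⟩ * ((ρ h x : Q) : Ω) * (φ ⟨y, hy⟩)⁻¹
    have h1 := hρ h ⟨y * x * y⁻¹, hx⟩
    have h2 := hρ h x
    have h3 := hφh ⟨y, hy⟩
    have h4 : ι ⟨(ρ h ⟨y * x * y⁻¹, hx⟩ : Q), hQS (ρ h ⟨y * x * y⁻¹, hx⟩).2⟩ =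
        ι (⟨φ ⟨y, hy⟩, hφ _⟩ * ⟨(ρ h x : Q), hQS (ρ h x).2⟩ * ⟨φ ⟨y, hy⟩, hφ _⟩⁻¹) := by
      rw [map_mul, map_mul, map_inv, h3]
      refine h1.trans ?_
      show h * ι (⟨y, hP hy⟩ * ⟨x, hQS x.2⟩ * ⟨y, hP hy⟩⁻¹) * h⁻¹ = _
      rw [map_mul, map_mul, map_inv]
      have h5 : ι ⟨(ρ h x : Q), hQS (ρ h x).2⟩ = h * ι ⟨x, hQS x.2⟩ * h⁻¹ := h2
      rw [h5]
      group
    exact congrArg Subtype.val (hreal.1 h4)
  -- `ψ` is realized by some `k`
  have hψS : ∀ x : N, ψ x ∈ S := (E.le_of_mem hψ).2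
  obtain ⟨k, hk⟩ := (hreal.2 N hNS ψ hψS).1 (hEi.1 N hψ)
  have hkC : k⁻¹ * h ∈ pCore p G := by
    apply hC
    rw [Subgroup.mem_centralizer_iff]
    intro y hy
    obtain ⟨x, rfl⟩ := hQs y hy
    have h1 := hk ⟨x, hQN x.2⟩
    have h2 : ψ ⟨x, hQN x.2⟩ = (ρ h x : Q) := hψe x x.2 (hQN x.2)
    have h3 : ι ⟨(ρ h x : Q), hQS (ρ h x).2⟩ = h * ι ⟨x, hQS x.2⟩ * h⁻¹ := hρ h x
    have h4 : (⟨ψ ⟨x, hQN x.2⟩, hψS _⟩ : S) = ⟨(ρ h x : Q), hQS (ρ h x).2⟩ := Subtype.ext h2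
    rw [h4, h3] at h1
    have h5 : h * ι ⟨x, hQS x.2⟩ * h⁻¹ = k * ι ⟨x, hQS x.2⟩ * k⁻¹ := h1
    calc ι ⟨x, hQS x.2⟩ * (k⁻¹ * h) = k⁻¹ * (k * ι ⟨x, hQS x.2⟩ * k⁻¹) * h := by group
      _ = k⁻¹ * (h * ι ⟨x, hQS x.2⟩ * h⁻¹) * h := by rw [h5]
      _ = k⁻¹ * h * ι ⟨x, hQS x.2⟩ := by group
  obtain ⟨q, hq⟩ := hQs _ hkC
  -- `φ` is `ψ` after conjugation by `q`
  have hcomp : H752.Mp E P (fun x => H752.ex ψ ((q : Ω) * x * (q : Ω)⁻¹)) :=
    (H752.mp_conj E hP (hQS q.2)).comp (H752.mp_ex hψ) fun x hx =>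
      mul_mem (mul_mem (hQN q.2) (hPN hx)) (inv_mem (hQN q.2))
  refine hcomp.mem_hom fun x hx => ?_
  have hmem : (q : Ω) * x * (q : Ω)⁻¹ ∈ N := mul_mem (mul_mem (hQN q.2) (hPN hx)) (inv_mem (hQN q.2))
  rw [H752.ex_apply _ hmem]
  have h1 : ι ⟨φ ⟨x, hx⟩, hφ _⟩ = ι ⟨ψ ⟨(q : Ω) * x * (q : Ω)⁻¹, hmem⟩, hψS _⟩ := by
    rw [hφh ⟨x, hx⟩, hk ⟨(q : Ω) * x * (q : Ω)⁻¹, hmem⟩]
    show _ = k * ι (⟨q, hQS q.2⟩ * ⟨x, hP hx⟩ * ⟨q, hQS q.2⟩⁻¹) * k⁻¹
    rw [map_mul, map_mul, map_inv, hq]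
    group
  exact congrArg Subtype.val (hreal.1 h1)

end core

end Cfsg.Agent.H759
end

-- part: H759/ResModelB
section
/-!
# Models of residual subsystems, part 2 (helper759)
-/

set_option autoImplicit false

namespace Cfsg.Agent.H759

open Cfsg Cfsg.FusionSystem

section res

variable {Ω : Type*} [Group Ω] {S T : Subgroup Ω} {F : FusionSystem S} {G : Type*} [Group G] {ι : S →* G} {p : ℕ}

/-- The restriction of `ι : S →* G` to a map `T →* H`. -/
def resMap (ι : S →* G) (hTS : T ≤ S) (H : Subgroup G) (h : ∀ x : T, ι ⟨x, hTS x.2⟩ ∈ H) : T →* H :=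
  (ι.comp (Subgroup.inclusion hTS)).codRestrict H h

theorem coe_resMap (hTS : T ≤ S) (H : Subgroup G) (h : ∀ x : T, ι ⟨x, hTS x.2⟩ ∈ H) (x : T) :
    ((resMap ι hTS H h x : H) : G) = ι ⟨x, hTS x.2⟩ := rfl

theorem resMap_injective (hι : Function.Injective ι) (hTS : T ≤ S) (H : Subgroup G)
    (h : ∀ x : T, ι ⟨x, hTS x.2⟩ ∈ H) : Function.Injective (resMap ι hTS H h) := by
  intro a b hab
  have h1 := congrArg Subtype.val hab
  exact Subgroup.inclusion_injective hTS (hι h1)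

theorem isSubsystemOf_of_resMap (hF : F.IsRealizedBy ι) {hTS : T ≤ S} {H : Subgroup G}
    {h : ∀ x : T, ι ⟨x, hTS x.2⟩ ∈ H} {E : FusionSystem T} (hE : E.IsRealizedBy (resMap ι hTS H h)) :
    E.IsSubsystemOf F := by
  intro P φ hφ
  obtain ⟨hP, hφT⟩ := E.le_of_mem hφ
  obtain ⟨g, hg⟩ := (hE.2 P hP φ hφT).1 hφ
  exact (hF.2 P (hP.trans hTS) φ (fun x => hTS (hφT x))).2 ⟨g, fun x => congrArg Subtype.val (hg x)⟩

theorem exists_sylow_resMap [Finite G] [Fact p.Prime] {R : Sylow p G} (hR : (R : Subgroup G) = ι.range)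
    {hTS : T ≤ S} {H : Subgroup G} [hn : H.Normal] {h : ∀ x : T, ι ⟨x, hTS x.2⟩ ∈ H}
    (hT : ∀ s : S, ι s ∈ H → (s : Ω) ∈ T) :
    ∃ R' : Sylow p H, (R' : Subgroup H) = (resMap ι hTS H h).range := by
  have h1 := (H802.sylIn_top_of_sylow R).inf_normal (M := H) le_top (fun k _ m hm => hn.conj_mem m hm k)
  obtain ⟨R', hR'⟩ := h1.exists_sylow
  refine ⟨R', ?_⟩
  rw [hR', hR]
  ext y
  rw [Subgroup.mem_subgroupOf]
  constructor
  · rintro ⟨⟨s, hs⟩, -⟩
    have hsT : (s : Ω) ∈ T := hT s (by rw [hs]; exact y.2)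
    exact ⟨⟨s, hsT⟩, Subtype.ext hs⟩
  · rintro ⟨x, rfl⟩
    exact ⟨⟨_, rfl⟩, (resMap ι hTS H h x).2⟩

theorem isModel_resMap [Fact p.Prime] (hF : F.IsModel p G ι)
    {hTS : T ≤ S} {H : Subgroup G} [hn : H.Normal] {h : ∀ x : T, ι ⟨x, hTS x.2⟩ ∈ H}
    (hT : ∀ s : S, ι s ∈ H → (s : Ω) ∈ T) {E : FusionSystem T} (hE : E.IsRealizedBy (resMap ι hTS H h)) :
    E.IsModel p H (resMap ι hTS H h) := by
  obtain ⟨hfin, hreal, ⟨R, hR⟩, hC⟩ := hF
  refine ⟨inferInstance, hE, exists_sylow_resMap hR hT, ?_⟩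
  exact H239.CharPLocal.CP.normal (p := p) (G := G) hC H

/-- Automorphisms, through `resMap`. -/
theorem actSub_resMap {hTS : T ≤ S} {H : Subgroup G} {h : ∀ x : T, ι ⟨x, hTS x.2⟩ ∈ H}
    {P : Subgroup Ω} (hP : P ≤ T) {α : MulAut P} {g : G} (hg : g ∈ H)
    (hα : (α, g) ∈ actSub ι (hP.trans hTS)) :
    (α, (⟨g, hg⟩ : H)) ∈ actSub (resMap ι hTS H h) hP := by
  intro x
  exact Subtype.ext (hα x)

/-! ### The `p'`-residual -/

theorem mem_pEl_of_model [Fact p.Prime] (hF : F.IsModel p G ι) (x : S) :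
    ι ⟨x, (le_refl S) x.2⟩ ∈ pEl p G := by
  obtain ⟨hfin, hreal, ⟨R, hR⟩, hC⟩ := hF
  apply isPGroup_le_pEl R.isPGroup'
  rw [hR]
  exact ⟨_, rfl⟩

theorem isPPrimeResidual_of_resMap [Finite S] [Fact p.Prime] (hF : F.IsModel p G ι) {E : FusionSystem S}
    (hE : E.IsRealizedBy (resMap ι le_rfl (pEl p G) (mem_pEl_of_model hF))) : F.IsPPrimeResidual p E := by
  obtain ⟨hfin, hreal, ⟨R, hR⟩, hC⟩ := id hF
  obtain ⟨R', hR'⟩ := exists_sylow_resMap (hTS := le_refl S) (h := mem_pEl_of_model hF) hR (fun s _ => s.2)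
  refine ⟨H781.isSaturated_of_isRealizedBy hE R' hR', ⟨isSubsystemOf_of_resMap hreal hE, ?_⟩, ?_⟩
  · intro P hP
    rw [MonoidHom.map_closure]
    refine (Subgroup.closure_le _).2 ?_
    rintro _ ⟨⟨α, hα⟩, ⟨k, hk⟩, rfl⟩
    have hfP : Finite P := H802.finite_of_le hP
    rw [Subgroup.orderOf_mk] at hk
    obtain ⟨g, hg⟩ := exists_of_mem_autGroup hreal hP hα
    obtain ⟨g', hg', j, hj⟩ := exists_pElement hg hk
    exact mem_autGroup_of_actSub hE hP (actSub_resMap hP (mem_pEl hj) hg')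
  · intro D hD hDi P φ hφ
    obtain ⟨hP, hφS⟩ := E.le_of_mem hφ
    obtain ⟨g, hg⟩ := (hE.2 P hP φ hφS).1 hφ
    exact mem_hom_of_pEl hF hD hDi hP hφS g.2 fun x => congrArg Subtype.val (hg x)

theorem isPPrimeResidual_unique {E E' : FusionSystem S} (hE : F.IsPPrimeResidual p E)
    (hE' : F.IsPPrimeResidual p E') : E = E' := by
  apply fusionSystem_ext
  intro P
  exact Set.Subset.antisymm (hE.2.2 E' hE'.1 hE'.2.1 P) (hE'.2.2 E hE.1 hE.2.1 P)

theorem isModel_pPrimeResidual [Finite S] [Fact p.Prime] (hF : F.IsModel p G ι) {E : FusionSystem S}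
    (hE : F.IsPPrimeResidual p E) : E.IsModel p (pEl p G) (resMap ι le_rfl (pEl p G) (mem_pEl_of_model hF)) := by
  have hi := resMap_injective hF.2.1.1 le_rfl (pEl p G) (mem_pEl_of_model hF)
  have h1 := H781.pullback_isRealizedBy _ hi
  have h2 := isPPrimeResidual_unique hE (isPPrimeResidual_of_resMap hF h1)
  rw [h2]
  exact isModel_resMap hF (fun s _ => s.2) h1

/-! ### The `p`-residual -/

theorem mem_hyperfocal_iff [Finite G] [Fact p.Prime] (hF : F.IsRealizedBy ι) {R : Sylow p G}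
    (hR : (R : Subgroup G) = ι.range) (x : Ω) :
    x ∈ F.hyperfocalSubgroup p ↔ ∃ hx : x ∈ S, ι ⟨x, hx⟩ ∈ pResidual p G := by
  have hfac := H781.isFactorSystem_of_isRealizedBy hF
  have hC : (groupFusionSystem ι.range).hyperfocalSubgroup p = ι.range ⊓ pResidual p G := by
    rw [← hR]
    exact S5093.result p R
  obtain ⟨C', hC'⟩ := exists_pull' (hf := Subgroup.subtype_injective ι.range) (top_map_subtype ι.range)
    (groupFusionSystem ι.range)
  have hγ : Function.Injective (S.subtype.comp (MonoidHom.ofInjective hF.1).symm.toMonoidHom) :=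
    (Subgroup.subtype_injective S).comp (MonoidHom.ofInjective hF.1).symm.injective
  have hpush : IsPush hγ C' F := isPush_of_isFactorSystem_bot hfac hC'
  rw [hpush.hyperfocal_eq p]
  rw [hC'.hyperfocal_eq p] at hC
  have hmem : ∀ r : ι.range, r ∈ C'.hyperfocalSubgroup p ↔ (r : G) ∈ pResidual p G := by
    intro r
    constructor
    · intro hr
      have h1 : (r : G) ∈ (C'.hyperfocalSubgroup p).map ι.range.subtype := ⟨r, hr, rfl⟩
      rw [hC] at h1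
      exact h1.2
    · intro hr
      have h1 : (r : G) ∈ ι.range ⊓ pResidual p G := ⟨r.2, hr⟩
      rw [← hC] at h1
      obtain ⟨r', hr', he⟩ := h1
      have : r' = r := Subtype.ext he
      rw [← this]; exact hr'
  constructor
  · rintro ⟨r, hr, rfl⟩
    refine ⟨((MonoidHom.ofInjective hF.1).symm r).2, ?_⟩
    have h1 : ι ((MonoidHom.ofInjective hF.1).symm r) = r := by
      have := (MonoidHom.ofInjective hF.1).apply_symm_apply r
      exact congrArg Subtype.val this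
    have h2 := (hmem r).1 hr
    rw [← h1] at h2
    exact h2
  · rintro ⟨hx, hx'⟩
    refine ⟨⟨ι ⟨x, hx⟩, ⟨_, rfl⟩⟩, (hmem _).2 hx', ?_⟩
    have h1 : (MonoidHom.ofInjective hF.1).symm ⟨ι ⟨x, hx⟩, ⟨_, rfl⟩⟩ = ⟨x, hx⟩ := by
      rw [MulEquiv.symm_apply_eq]
      rfl
    exact congrArg Subtype.val h1

theorem mem_pResidual_of_model [Fact p.Prime] (hF : F.IsModel p G ι) (x : F.hyperfocalSubgroup p) :
    ι ⟨x, (H747.hyperfocal_le_base F p) x.2⟩ ∈ pResidual p G := by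
  obtain ⟨hfin, hreal, ⟨R, hR⟩, hC⟩ := hF
  exact ((mem_hyperfocal_iff hreal hR x).1 x.2).2

theorem isPResidual_of_resMap [Finite S] [Fact p.Prime] (hF : F.IsModel p G ι)
    {D : FusionSystem (F.hyperfocalSubgroup p)}
    (hD : D.IsRealizedBy (resMap ι (H747.hyperfocal_le_base F p) (pResidual p G) (mem_pResidual_of_model hF))) :
    F.IsPResidual p D := by
  obtain ⟨hfin, hreal, ⟨R, hR⟩, hC⟩ := id hF
  have hn : (pResidual p G).Normal := TwoFusion.PResidual.pResidual_normal p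
  obtain ⟨R', hR'⟩ := exists_sylow_resMap (hTS := H747.hyperfocal_le_base F p) (h := mem_pResidual_of_model hF)
    hR (fun s hs => (mem_hyperfocal_iff hreal hR s).2 ⟨s.2, hs⟩)
  refine ⟨H781.isSaturated_of_isRealizedBy hD R' hR', isSubsystemOf_of_resMap hreal hD, le_rfl, ?_⟩
  intro P hP
  unfold pResidual
  rw [MonoidHom.map_closure]
  refine (Subgroup.closure_le _).2 ?_
  rintro _ ⟨⟨α, hα⟩, hk, rfl⟩
  have hPS := hP.trans (H747.hyperfocal_le_base F p)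
  have hfP : Finite P := H802.finite_of_le hPS
  rw [Set.mem_ofPred_eq, Subgroup.orderOf_mk] at hk
  obtain ⟨g, hg⟩ := exists_of_mem_autGroup hreal hPS hα
  obtain ⟨g', hg', hj⟩ := exists_pPrimeElement hg hk
  exact mem_autGroup_of_actSub hD hP (actSub_resMap hP (TwoFusion.PResidual.mem_pResidual_of_coprime p hj) hg')

theorem isPResidual_unique [Finite S] [Fact p.Prime] (hS : IsPGroup p S)
    {D D' : FusionSystem (F.hyperfocalSubgroup p)} (hD : F.IsPResidual p D)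
    (hD' : F.IsPResidual p D') : D = D' := by
  have hTS := H747.hyperfocal_le_base F p
  have hfT : Finite (F.hyperfocalSubgroup p) := H802.finite_of_le hTS
  apply fusionSystem_ext
  intro P
  exact Set.Subset.antisymm
    (isSubsystemOf_of_pPowerIndex (hS.to_le hTS) hTS hD.1 hD.2.1 hD'.2 P)
    (isSubsystemOf_of_pPowerIndex (hS.to_le hTS) hTS hD'.1 hD'.2.1 hD.2 P)

theorem isModel_pResidual [Finite S] [Fact p.Prime] (hS : IsPGroup p S) (hF : F.IsModel p G ι)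
    {D : FusionSystem (F.hyperfocalSubgroup p)} (hD : F.IsPResidual p D) :
    D.IsModel p (pResidual p G)
      (resMap ι (H747.hyperfocal_le_base F p) (pResidual p G) (mem_pResidual_of_model hF)) := by
  have hn : (pResidual p G).Normal := TwoFusion.PResidual.pResidual_normal p
  have hi := resMap_injective hF.2.1.1 (H747.hyperfocal_le_base F p) (pResidual p G) (mem_pResidual_of_model hF)
  have h1 := H781.pullback_isRealizedBy _ hi
  have h2 := isPResidual_unique hS hD (isPResidual_of_resMap hF h1)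
  rw [h2]
  obtain ⟨hfin, hreal, ⟨R, hR⟩, hC⟩ := id hF
  exact isModel_resMap hF (fun s hs => (mem_hyperfocal_iff hreal hR s).2 ⟨s.2, hs⟩) h1

end res

end Cfsg.Agent.H759
end
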