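import Cfsg.Agent.H759.FusBasic
set_option linter.all false

/-!
The lifting theorem modulo a strongly closed subgroup of a saturated fusion system, products of strongly closed
subgroups, and the normality criterion through a chain of strongly closed subgroups.
-/

set_option autoImplicit false

namespace Cfsg.Agent.H759

open Cfsg Cfsg.FusionSystem

variable {Ω : Type*} [Group Ω] {S : Subgroup Ω} (F : FusionSystem S)

section stronglyClosed

/-- An induction over the elements of `A ⊔ B` for a homomorphism defined on it. -/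
theorem hom_sup_mem {A B : Subgroup Ω} {φ : (A ⊔ B : Subgroup Ω) →* Ω} {R : Subgroup Ω}
    (hA : ∀ (x : Ω) (_ : x ∈ A) (hx' : x ∈ A ⊔ B), φ ⟨x, hx'⟩ ∈ R)
    (hB : ∀ (x : Ω) (_ : x ∈ B) (hx' : x ∈ A ⊔ B), φ ⟨x, hx'⟩ ∈ R) (y : (A ⊔ B : Subgroup Ω)) :
    φ y ∈ R := by
  have h : A ⊔ B ≤ (R.comap φ).map (A ⊔ B : Subgroup Ω).subtype := by
    refine sup_le ?_ ?_
    · intro x hx
      exact ⟨⟨x, (le_sup_left : A ≤ A ⊔ B) hx⟩, hA x hx _, rfl⟩
    · intro x hx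
      exact ⟨⟨x, (le_sup_right : B ≤ A ⊔ B) hx⟩, hB x hx _, rfl⟩
  obtain ⟨z, hz, hzy⟩ := h y.2
  have : z = y := Subtype.ext hzy
  rw [← this]; exact hz

variable {F}

theorem StronglyClosed.conj_mem {T : Subgroup Ω} (hT : F.StronglyClosed T) {s t : Ω}
    (hs : s ∈ S) (ht : t ∈ T) : s * t * s⁻¹ ∈ T :=
  hT.2 T le_rfl (conjHom T s) (F.conj_mem hT.1 hs) ⟨t, ht⟩

theorem StronglyClosed.conj_mem' {T : Subgroup Ω} (hT : F.StronglyClosed T) {s t : Ω}
    (hs : s ∈ S) (ht : t ∈ T) : s⁻¹ * t * s ∈ T := by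
  have := StronglyClosed.conj_mem hT (inv_mem hs) ht
  simpa using this

theorem StronglyClosed.le_normalizer {T : Subgroup Ω} (hT : F.StronglyClosed T) :
    S ≤ Subgroup.normalizer (T : Set Ω) := by
  rw [Subgroup.le_normalizer_iff]
  exact fun s hs t ht => StronglyClosed.conj_mem hT hs ht

theorem StronglyClosed.apply_mem {T : Subgroup Ω} (hT : F.StronglyClosed T) {P : Subgroup Ω}
    {φ : P →* Ω} (hφ : φ ∈ F.Hom P) {x : P} (hx : (x : Ω) ∈ T) : φ x ∈ T := by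
  have h : (P ⊓ T : Subgroup Ω) ≤ P := inf_le_left
  exact hT.2 (P ⊓ T) inf_le_right _ (res_mem_comp F hφ h) ⟨x, x.2, hx⟩

/-- An element of a finite strongly closed subgroup is hit from inside it. -/
theorem StronglyClosed.exists_preimage [Finite S] {T : Subgroup Ω} (hT : F.StronglyClosed T)
    {P : Subgroup Ω} {φ : P →* Ω} (hφ : φ ∈ F.Hom P) (hTP : T ≤ P) {t : Ω} (ht : t ∈ T) :
    ∃ (x : Ω) (hx : x ∈ T), φ ⟨x, hTP hx⟩ = t := by
  have : Finite T := Finite.of_injective _ (Subgroup.inclusion_injective hT.1)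
  let f : T → T := fun x => ⟨φ ⟨x, hTP x.2⟩, StronglyClosed.apply_mem hT hφ x.2⟩
  have hf : Function.Injective f := by
    intro a b hab
    have h1 := congrArg Subtype.val hab
    have h2 := F.injective_of_mem hφ h1
    have h3 := congrArg Subtype.val h2
    exact Subtype.ext h3
  obtain ⟨x, hx⟩ := Finite.surjective_of_injective hf ⟨t, ht⟩
  exact ⟨x, x.2, congrArg Subtype.val hx⟩

/-- `x ∈ S` maps into `T` only if it lies in `T`. -/
theorem StronglyClosed.mem_of_apply_mem {T : Subgroup Ω} (hT : F.StronglyClosed T) {P : Subgroup Ω}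
    {φ : P →* Ω} (hφ : φ ∈ F.Hom P) {x : P} (hx : φ x ∈ T) : (x : Ω) ∈ T := by
  obtain ⟨ψ, hψ, h⟩ := F.inv_mem hφ
  have := StronglyClosed.apply_mem hT hψ (x := ⟨φ x, ⟨x, rfl⟩⟩) hx
  rwa [h x] at this

theorem StronglyClosed.bot : F.StronglyClosed ⊥ := by
  refine ⟨bot_le, fun R hR φ hφ x => ?_⟩
  have : x = 1 := by
    apply Subtype.ext
    have := hR x.2
    simpa using this
  rw [this, map_one]; exact one_mem _

theorem StronglyClosed.top : F.StronglyClosed S :=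
  ⟨le_rfl, fun _ _ _ hφ x => (F.le_of_mem hφ).2 x⟩

theorem StronglyClosed.inf {T U : Subgroup Ω} (hT : F.StronglyClosed T) (hU : F.StronglyClosed U) :
    F.StronglyClosed (T ⊓ U) := by
  refine ⟨inf_le_left.trans hT.1, fun R hR φ hφ x => ?_⟩
  exact ⟨StronglyClosed.apply_mem hT hφ (hR x.2).1, StronglyClosed.apply_mem hU hφ (hR x.2).2⟩

theorem mem_sup_of_normalizes {A B : Subgroup Ω} (hA : A ≤ Subgroup.normalizer (B : Set Ω)) {x : Ω} :
    x ∈ A ⊔ B ↔ ∃ a ∈ A, ∃ b ∈ B, a * b = x := by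
  constructor
  · intro hx
    -- the set of products is a subgroup
    let C : Subgroup Ω :=
      { carrier := {x | ∃ a ∈ A, ∃ b ∈ B, a * b = x}
        one_mem' := ⟨1, one_mem _, 1, one_mem _, by simp⟩
        mul_mem' := by
          rintro _ _ ⟨a, ha, b, hb, rfl⟩ ⟨a', ha', b', hb', rfl⟩
          refine ⟨a * a', mul_mem ha ha', (a'⁻¹ * b * a') * b', mul_mem ?_ hb', by group⟩
          have h := (Subgroup.mem_normalizer_iff.1 (inv_mem (hA ha')) b).1 hb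
          simpa using h
        inv_mem' := by
          rintro _ ⟨a, ha, b, hb, rfl⟩
          refine ⟨a⁻¹, inv_mem ha, a * b⁻¹ * a⁻¹, ?_, by group⟩
          exact (Subgroup.mem_normalizer_iff.1 (hA ha) _).1 (inv_mem hb) }
    have h : A ⊔ B ≤ C := by
      refine sup_le ?_ ?_
      · intro a ha; exact ⟨a, ha, 1, one_mem _, by simp⟩
      · intro b hb; exact ⟨1, one_mem _, b, hb, by simp⟩
    exact h hx
  · rintro ⟨a, ha, b, hb, rfl⟩
    exact Subgroup.mul_mem_sup ha hb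

/-- **Lifting theorem** modulo a strongly closed subgroup: in a saturated fusion system `F`, for `T` strongly closed,
every map `φ` with source `P` agrees modulo `T` with a map of `F` with source `P T`. -/
theorem exists_lift [Finite S] {p : ℕ} [Fact p.Prime] (hS : IsPGroup p S)
    (hF : F.IsSaturated p) {T : Subgroup Ω} (hT : F.StronglyClosed T) :
    ∀ (P : Subgroup Ω) (φ : P →* Ω), φ ∈ F.Hom P →
      ∃ ψ ∈ F.Hom (P ⊔ T), ∀ (x : P) (hx : (x : Ω) ∈ P ⊔ T), (φ x)⁻¹ * ψ ⟨x, hx⟩ ∈ T := by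
  refine saturated_induction F hS hF
    (fun P φ => ∃ ψ ∈ F.Hom (P ⊔ T), ∀ (x : P) (hx : (x : Ω) ∈ P ⊔ T), (φ x)⁻¹ * ψ ⟨x, hx⟩ ∈ T)
    ?_ ?_ ?_ ?_
  · -- restriction
    rintro P R φ χ hφ ⟨ψ, hψ, h⟩ hR hχ
    have hle : R ⊔ T ≤ P ⊔ T := sup_le_sup_right hR T
    refine ⟨ψ.comp (Subgroup.inclusion hle), res_mem_comp F hψ hle, fun x hx => ?_⟩
    rw [hχ x]
    exact h ⟨x, hR x.2⟩ (hle hx)
  · -- composition
    rintro P Q φ ψ χ hφ hψ ⟨φ', hφ', h⟩ ⟨ψ', hψ', h'⟩ hχ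
    have hQT : ∀ y : (P ⊔ T : Subgroup Ω), φ' y ∈ Q ⊔ T := by
      apply hom_sup_mem
      · intro x hx hx'
        have h1 := h ⟨x, hx⟩ hx'
        obtain ⟨h2, -⟩ := hχ ⟨x, hx⟩
        have h3 : φ ⟨x, hx⟩ * ((φ ⟨x, hx⟩)⁻¹ * φ' ⟨x, hx'⟩) = φ' ⟨x, hx'⟩ := by group
        rw [← h3]
        exact Subgroup.mul_mem_sup h2 h1
      · intro x hx hx'
        have h1 : φ' ⟨x, hx'⟩ ∈ T := StronglyClosed.apply_mem hT hφ' (x := ⟨x, hx'⟩) hx
        exact (le_sup_right : T ≤ Q ⊔ T) h1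
    refine ⟨ψ'.comp (φ'.codRestrict _ hQT), F.comp_mem hφ' hψ' hQT, fun x hx => ?_⟩
    obtain ⟨h2, h3⟩ := hχ x
    rw [h3]
    show (ψ ⟨φ x, h2⟩)⁻¹ * ψ' ⟨φ' ⟨x, hx⟩, _⟩ ∈ T
    have h1 := h x hx
    have h4 : φ x ∈ Q ⊔ T := (le_sup_left : Q ≤ Q ⊔ T) h2
    have h5 : (φ x)⁻¹ * φ' ⟨x, hx⟩ ∈ Q ⊔ T := (le_sup_right : T ≤ Q ⊔ T) h1
    have h6 : (⟨φ' ⟨x, hx⟩, hQT _⟩ : (Q ⊔ T : Subgroup Ω)) =
        ⟨φ x, h4⟩ * ⟨(φ x)⁻¹ * φ' ⟨x, hx⟩, h5⟩ := Subtype.ext (by
          show _ = φ x * ((φ x)⁻¹ * φ' ⟨x, hx⟩); group)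
    rw [h6, map_mul, ← mul_assoc]
    exact mul_mem (h' ⟨φ x, h2⟩ h4) (StronglyClosed.apply_mem hT hψ' h1)
  · -- inverses
    rintro P R φ χ hφ ⟨φ', hφ', h⟩ hχ hinv
    have hPT : T ≤ P ⊔ T := le_sup_right
    have hkey : ∀ y : R, ∃ (x : P) (t : Ω) (ht : t ∈ T) (hx : (x : Ω) ∈ P ⊔ T),
        φ' (⟨x, hx⟩ * ⟨t, hPT ht⟩) = y ∧ χ y = x := by
      intro y
      obtain ⟨x, hx, hy⟩ := hinv y
      have hx' : (x : Ω) ∈ P ⊔ T := (le_sup_left : P ≤ P ⊔ T) x.2
      have h1 := h x hx'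
      obtain ⟨t, ht, h2⟩ := StronglyClosed.exists_preimage hT hφ' hPT (inv_mem h1)
      refine ⟨x, t, ht, hx', ?_, hy⟩
      rw [map_mul, h2, hx]; group
    have hle : R ⊔ T ≤ φ'.range := by
      refine sup_le ?_ ?_
      · intro y hy
        obtain ⟨x, t, ht, hx, h1, -⟩ := hkey ⟨y, hy⟩
        exact ⟨_, h1⟩
      · intro t ht
        obtain ⟨x, hx, h1⟩ := StronglyClosed.exists_preimage hT hφ' hPT ht
        exact ⟨_, h1⟩
    obtain ⟨ψ, hψ, h1⟩ := exists_inv F hφ' hle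
    refine ⟨ψ, hψ, fun y hy => ?_⟩
    obtain ⟨x, t, ht, hx, h2, h3⟩ := hkey y
    have h4 : φ' (⟨x, hx⟩ * ⟨t, hPT ht⟩) ∈ R ⊔ T := by rw [h2]; exact hy
    have h5 := h1 _ h4
    have h6 : (⟨φ' (⟨x, hx⟩ * ⟨t, hPT ht⟩), h4⟩ : (R ⊔ T : Subgroup Ω)) = ⟨y, hy⟩ := Subtype.ext h2
    rw [h6] at h5
    rw [h5, h3]
    have h7 : (x : Ω)⁻¹ * ((⟨x, hx⟩ * ⟨t, hPT ht⟩ : (P ⊔ T : Subgroup Ω)) : Ω) = t := by
      show (x : Ω)⁻¹ * (x * t) = t
      group
    rw [h7]; exact ht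
  · -- automorphisms
    intro Q hQa hQr IH α hα
    have hQS : Q ≤ S := hQa.1
    have hfQ : Finite Q := Finite.of_injective _ (Subgroup.inclusion_injective hQS)
    have hαm := (mem_autGroup F hQS).1 hα
    by_cases hTQ : T ≤ Q
    · have hle : Q ⊔ T ≤ Q := sup_le le_rfl hTQ
      refine ⟨_, res_mem_comp F hαm hle, fun x hx => ?_⟩
      have : (Q.subtype.comp α.toMonoidHom) x = (Q.subtype.comp α.toMonoidHom).comp
        (Subgroup.inclusion hle) ⟨x, hx⟩ := rfl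
      rw [← this]; simp
    · -- the kernel on `Q / (Q ∩ T)`
      have hTn := StronglyClosed.le_normalizer hT
      let K : Subgroup (MulAut Q) :=
        { carrier := {κ | κ ∈ F.autGroup Q ∧ ∀ x : Q, (x : Ω)⁻¹ * (κ x : Q) ∈ T}
          one_mem' := ⟨one_mem _, fun x => by simp⟩
          mul_mem' := by
            rintro a b ⟨ha, ha'⟩ ⟨hb, hb'⟩
            refine ⟨mul_mem ha hb, fun x => ?_⟩
            rw [MulAut.mul_apply]
            have h1 : (x : Ω)⁻¹ * (a (b x) : Q) = ((x : Ω)⁻¹ * (b x : Q)) *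
              (((b x : Q) : Ω)⁻¹ * (a (b x) : Q)) := by group
            rw [h1]
            exact mul_mem (hb' x) (ha' _)
          inv_mem' := by
            rintro a ⟨ha, ha'⟩
            refine ⟨inv_mem ha, fun x => ?_⟩
            have h1 := ha' (a⁻¹ x)
            rw [MulAut.apply_inv_self] at h1
            have h2 := inv_mem h1
            simpa using h2 }
      have hKA : K ≤ F.autGroup Q := fun k hk => hk.1
      have hKn : ∀ a ∈ F.autGroup Q, ∀ k ∈ K, a * k * a⁻¹ ∈ K := by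
        rintro a ha k ⟨hk, hk'⟩
        refine ⟨mul_mem (mul_mem ha hk) (inv_mem ha), fun x => ?_⟩
        have h1 := hk' (a⁻¹ x)
        have ham := (mem_autGroup F hQS).1 ha
        have h2 : ((a ((a⁻¹ x)⁻¹ * k (a⁻¹ x)) : Q) : Ω) ∈ T :=
          StronglyClosed.apply_mem hT ham (x := (a⁻¹ x)⁻¹ * k (a⁻¹ x)) h1
        rw [map_mul, map_inv, MulAut.apply_inv_self] at h2
        exact h2
      -- `N = N_T(Q)`
      obtain ⟨κ, hκ, ψ, hψ, h⟩ := exists_extension F hS hQa hQr hαm (by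
          ext y
          constructor
          · rintro ⟨x, rfl⟩; exact (α x).2
          · intro hy
            exact ⟨α⁻¹ ⟨y, hy⟩, by
              show ((α (α⁻¹ ⟨y, hy⟩) : Q) : Ω) = y
              rw [MulAut.apply_inv_self]⟩) K hKA hKn
        (T ⊓ Subgroup.normalizer (Q : Set Ω)) (inf_le_left.trans hT.1) inf_le_right (by
          intro g hg
          have hcg : conjAut Q g hg.2 ∈ K := by
            refine ⟨autGroup_map F (conj_mem' F hQS (hT.1 hg.1) (fun x => rfl)), fun x => ?_⟩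
            rw [coe_conjAut]
            have h1 : (x : Ω)⁻¹ * (g * x * g⁻¹) = ((x : Ω)⁻¹ * g * x) * g⁻¹ := by group
            rw [h1]
            exact mul_mem (StronglyClosed.conj_mem' hT (hQS x.2) hg.1) (inv_mem hg.1)
          refine ⟨α * conjAut Q g hg.2 * α⁻¹, hKn α hα _ hcg, 1, one_mem _, one_mem _, ?_⟩
          intro x hx hy
          have h1 : (⟨1 * (Q.subtype.comp α.toMonoidHom) x * 1⁻¹, hy⟩ : Q) = α x :=
            Subtype.ext (by simp)
          rw [h1, MulAut.mul_apply, MulAut.mul_apply, MulAut.inv_apply_self]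
          rfl)
      -- the source got larger
      have hlt : Nat.card Q < Nat.card (Q ⊔ (T ⊓ Subgroup.normalizer (Q : Set Ω)) : Subgroup Ω) := by
        have h1 : Q < Q ⊔ T := lt_of_le_of_ne le_sup_left (fun h => hTQ (h ▸ le_sup_right))
        obtain ⟨g, hg, hgQ, hgn⟩ := exists_mem_normalizer_not_mem hS (sup_le hQS hT.1) h1
        obtain ⟨q, hq, t, ht, rfl⟩ := (mem_sup_of_normalizes (hQS.trans hTn)).1 hg
        have htQ : t ∉ Q := fun h => hgQ (mul_mem hq h)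
        have htn : t ∈ Subgroup.normalizer (Q : Set Ω) := by
          have h2 := mul_mem (inv_mem (Subgroup.le_normalizer hq)) hgn
          simpa [← mul_assoc] using h2
        have hlt2 : Q < Q ⊔ (T ⊓ Subgroup.normalizer (Q : Set Ω)) := by
          refine lt_of_le_of_ne le_sup_left (fun h => htQ ?_)
          rw [h]
          exact (le_sup_right : _ ≤ Q ⊔ (T ⊓ Subgroup.normalizer (Q : Set Ω))) ⟨ht, htn⟩
        have hfN : Finite (Q ⊔ (T ⊓ Subgroup.normalizer (Q : Set Ω)) : Subgroup Ω) :=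
          Finite.of_injective _ (Subgroup.inclusion_injective (F.le_of_mem hψ).1)
        refine lt_of_le_of_ne (Subgroup.card_le_of_le hlt2.le) (fun h => ?_)
        exact hlt2.ne (Subgroup.eq_of_le_of_card_ge hlt2.le h.ge)
      obtain ⟨ψ', hψ', h'⟩ := IH _ ψ hψ hlt
      -- compose with the inverse of `κ`, whose lift is the identity
      have hle1 : Q ≤ Q ⊔ (T ⊓ Subgroup.normalizer (Q : Set Ω)) := le_sup_left
      have hle2 : Q ⊔ T ≤ (Q ⊔ (T ⊓ Subgroup.normalizer (Q : Set Ω))) ⊔ T :=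
        sup_le_sup_right hle1 T
      refine ⟨ψ'.comp (Subgroup.inclusion hle2), res_mem_comp F hψ' hle2, fun x hx => ?_⟩
      have h1 := h' ⟨x, hle1 x.2⟩ (hle2 hx)
      have h2 := h x (α x).2 (hle1 x.2)
      have h3 : (⟨(Q.subtype.comp α.toMonoidHom) x, (α x).2⟩ : Q) = α x := rfl
      rw [h3] at h2
      rw [h2] at h1
      have h4 := hκ.2 (α x)
      have h5 := mul_mem h4 h1
      have h6 : (((α x : Q) : Ω)⁻¹ * (κ (α x) : Q)) * (((κ (α x) : Q) : Ω)⁻¹ * ψ' ⟨x, hle2 hx⟩) =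
        ((α x : Q) : Ω)⁻¹ * ψ' ⟨x, hle2 hx⟩ := by group
      rw [h6] at h5
      exact h5

/-- The product of two strongly closed subgroups is strongly closed. -/
theorem StronglyClosed.sup [Finite S] {p : ℕ} [Fact p.Prime] (hS : IsPGroup p S)
    (hF : F.IsSaturated p) {T U : Subgroup Ω} (hT : F.StronglyClosed T) (hU : F.StronglyClosed U) :
    F.StronglyClosed (T ⊔ U) := by
  refine ⟨sup_le hT.1 hU.1, fun R hR φ hφ x => ?_⟩
  obtain ⟨ψ, hψ, h⟩ := exists_lift hS hF hU R φ hφ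
  have hx' : (x : Ω) ∈ R ⊔ U := (le_sup_left : R ≤ R ⊔ U) x.2
  have h1 := h x hx'
  obtain ⟨t, ht, u, hu, htu⟩ := (mem_sup_of_normalizes (hT.1.trans (StronglyClosed.le_normalizer hU))).1
    (hR x.2)
  have hu' : u ∈ R ⊔ U := (le_sup_right : U ≤ R ⊔ U) hu
  have ht' : t ∈ R ⊔ U := by
    have : t = x * u⁻¹ := by rw [← htu]; group
    rw [this]; exact mul_mem hx' (inv_mem hu')
  have h2 : ψ ⟨x, hx'⟩ ∈ T ⊔ U := by
    have : (⟨x, hx'⟩ : (R ⊔ U : Subgroup Ω)) = ⟨t, ht'⟩ * ⟨u, hu'⟩ := Subtype.ext htu.symm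
    rw [this, map_mul]
    exact Subgroup.mul_mem_sup (StronglyClosed.apply_mem hT hψ ht)
      (StronglyClosed.apply_mem hU hψ hu)
  have h3 : φ x = ψ ⟨x, hx'⟩ * ((φ x)⁻¹ * ψ ⟨x, hx'⟩)⁻¹ := by group
  rw [h3]
  exact mul_mem h2 (inv_mem ((le_sup_right : U ≤ T ⊔ U) h1))

end stronglyClosed

end Cfsg.Agent.H759
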