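import Cfsg.Agent.H759.FusFactor
set_option linter.all false

/-!
Solvable fusion systems: a saturated system is solvable iff it has a chain of strongly closed subgroups with abelian
factors, and such a system is constrained.
-/

set_option autoImplicit false

namespace Cfsg.Agent.H759

open Cfsg Cfsg.FusionSystem
open scoped commutatorElement

variable {Ω : Type*} [Group Ω] {S : Subgroup Ω} {F : FusionSystem S}

/-- The centre of a subgroup normal in the system is strongly closed. -/
theorem stronglyClosed_center_of_isNormal {N : Subgroup Ω} (hN : F.IsNormal N) :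
    F.StronglyClosed ((Subgroup.center N).map N.subtype) := by
  refine ⟨(Subgroup.map_subtype_le _).trans hN.1, fun R hR φ hφ x => ?_⟩
  obtain ⟨ψ, hψ, h1, h2⟩ := hN.2 R φ hφ
  have hxN : (x : Ω) ∈ N := Subgroup.map_subtype_le _ (hR x.2)
  have hφx : φ x ∈ N := StronglyClosed.apply_mem (IsNormal.stronglyClosed hN) hφ hxN
  refine ⟨⟨φ x, hφx⟩, ?_, rfl⟩
  rw [SetLike.mem_coe, Subgroup.mem_center_iff]
  intro y
  have hy := y.2
  rw [← SetLike.ext_iff.1 h2] at hy
  obtain ⟨z, hz, hzy⟩ := hy
  apply Subtype.ext
  show (y : Ω) * φ x = φ x * y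
  rw [← hzy, ← h1 x, ← map_mul, ← map_mul]
  congr 1
  apply Subtype.ext
  show (z : Ω) * x = x * z
  obtain ⟨c, hc, hcx⟩ := hR x.2
  rw [SetLike.mem_coe, Subgroup.mem_center_iff] at hc
  have h3 := congrArg Subtype.val (hc ⟨z, hz⟩)
  have h4 : (c : Ω) = x := hcx
  rw [← h4]
  exact h3

/-- A chain of strongly closed subgroups with abelian factors from `R` to `S`. -/
def HasChain (F : FusionSystem S) (R : Subgroup Ω) : Prop :=
  ∃ (m : ℕ) (c : ℕ → Subgroup Ω), c 0 = R ∧ c m = S ∧ (∀ i, F.StronglyClosed (c i)) ∧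
    (∀ i, c i ≤ c (i + 1)) ∧ ∀ i, ⁅c (i + 1), c (i + 1)⁆ ≤ c i

theorem normal_subgroupOf_of_stronglyClosed {R : Subgroup Ω} (hR : F.StronglyClosed R) :
    (R.subgroupOf S).Normal :=
  ⟨fun _ hn g => StronglyClosed.conj_mem hR g.2 hn⟩

theorem mk'_eq_one_iff {R : Subgroup Ω} [(R.subgroupOf S).Normal] (s : S) :
    QuotientGroup.mk' (R.subgroupOf S) s = 1 ↔ (s : Ω) ∈ R := by
  rw [QuotientGroup.mk'_apply, QuotientGroup.eq_one_iff, Subgroup.mem_subgroupOf]

theorem range_mk' {R : Subgroup Ω} [(R.subgroupOf S).Normal] :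
    (QuotientGroup.mk' (R.subgroupOf S)).range = ⊤ :=
  MonoidHom.range_eq_top.2 (QuotientGroup.mk'_surjective _)

theorem hasChain_of_isSolvableSystem [Finite S] {p : ℕ} [Fact p.Prime] (hS : IsPGroup p S)
    (hF : F.IsSaturated p) (h : F.IsSolvableSystem) :
    ∀ R : Subgroup Ω, F.StronglyClosed R → HasChain F R := by
  have key : ∀ m : ℕ, ∀ R : Subgroup Ω, F.StronglyClosed R → Nat.card S - Nat.card R = m →
      HasChain F R := by
    intro m
    induction m using Nat.strong_induction_on with
    | _ m ih =>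
    intro R hR hm
    by_cases hRS : R = S
    · refine ⟨0, fun _ => S, hRS.symm, rfl, fun _ => StronglyClosed.top, fun _ => le_rfl,
        fun _ => ?_⟩
      exact Subgroup.commutator_le.2 fun a ha b hb => by
        rw [commutatorElement_def]
        exact mul_mem (mul_mem (mul_mem ha hb) (inv_mem ha)) (inv_mem hb)
    · have hnorm := normal_subgroupOf_of_stronglyClosed hR
      obtain ⟨E, hE⟩ := exists_factorSystem (S' := ⊤) hR (θ := QuotientGroup.mk' (R.subgroupOf S))
        mk'_eq_one_iff range_mk'
      have hcore := h R hR hRS E hE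
      obtain ⟨N', hN', hN'1⟩ : ∃ N', E.IsNormal N' ∧ N' ≠ ⊥ := by
        by_contra hcon
        push Not at hcon
        apply hcore
        rw [eq_bot_iff]
        exact sSup_le fun Q hQ => (hcon Q hQ).le
      have hA' := stronglyClosed_center_of_isNormal hN'
      set A' := (Subgroup.center N').map N'.subtype with hA'def
      have hpq : IsPGroup p (S ⧸ R.subgroupOf S) := hS.to_quotient _
      have hA'1 : ∃ a ∈ A', a ≠ 1 := by
        have : Nontrivial N' := (Subgroup.nontrivial_iff_ne_bot _).2 hN'1
        have hpN : IsPGroup p N' := hpq.to_subgroup N'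
        have := hpN.center_nontrivial
        obtain ⟨z, hz⟩ := exists_ne (1 : Subgroup.center N')
        refine ⟨((z : N') : _), ⟨z, z.2, rfl⟩, fun h1 => hz ?_⟩
        apply Subtype.ext
        apply Subtype.ext
        exact h1
      set B := preimageAlong (QuotientGroup.mk' (R.subgroupOf S)) A' with hB
      have hBsc : F.StronglyClosed B := stronglyClosed_preimage hS hF hR hE hA'
      have hRB : R ≤ B := le_preimageAlong hR.1 hE.2.1
      have hlt : R < B := by
        refine lt_of_le_of_ne hRB (fun heq => ?_)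
        obtain ⟨a', ha', ha'1⟩ := hA'1
        obtain ⟨a, haS, haB, haa⟩ := exists_preimage_of_mem hE hA'.1 ha'
        rw [← hB, ← heq] at haB
        apply ha'1
        rw [← haa]
        exact (mk'_eq_one_iff _).2 haB
      have hcomm : ⁅B, B⁆ ≤ R := by
        rw [Subgroup.commutator_le]
        intro a ha b hb
        obtain ⟨haS, ha'⟩ := mem_preimageAlong.1 ha
        obtain ⟨hbS, hb'⟩ := mem_preimageAlong.1 hb
        have h1 : QuotientGroup.mk' (R.subgroupOf S) ⁅(⟨a, haS⟩ : S), ⟨b, hbS⟩⁆ = 1 := by
          rw [map_commutatorElement, commutatorElement_eq_one_iff_mul_comm]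
          obtain ⟨u, hu, hua⟩ := ha'
          obtain ⟨v, hv, hvb⟩ := hb'
          rw [← hua, ← hvb]
          rw [SetLike.mem_coe, Subgroup.mem_center_iff] at hu
          exact (congrArg Subtype.val (hu v)).symm
        exact (mk'_eq_one_iff _).1 h1
      have hfB : Finite B := Finite.of_injective _ (Subgroup.inclusion_injective hBsc.1)
      have hfR : Finite R := Finite.of_injective _ (Subgroup.inclusion_injective hR.1)
      have hcard : Nat.card R < Nat.card B := by
        refine lt_of_le_of_ne (Subgroup.card_le_of_le hlt.le) (fun h => ?_)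
        exact hlt.ne (Subgroup.eq_of_le_of_card_ge hlt.le h.ge)
      have hcardB : Nat.card B ≤ Nat.card S := Subgroup.card_le_of_le hBsc.1
      obtain ⟨n, c, h0, hn, hsc, hmono, hc⟩ := ih (Nat.card S - Nat.card B) (by omega) B hBsc rfl
      refine ⟨n + 1, fun i => if i = 0 then R else c (i - 1), by simp, by simpa using hn, ?_, ?_, ?_⟩
      · intro i
        by_cases hi : i = 0
        · simp only [hi, if_true]; exact hR
        · simp only [if_neg hi]; exact hsc _
      · intro i
        by_cases hi : i = 0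
        · subst hi
          simp only [if_true, zero_add, if_neg (show (1 : ℕ) ≠ 0 by omega), Nat.sub_self]
          rw [h0]; exact hRB
        · simp only [if_neg hi, if_neg (show i + 1 ≠ 0 by omega)]
          have h1 : i + 1 - 1 = (i - 1) + 1 := by omega
          rw [h1]
          exact hmono _
      · intro i
        by_cases hi : i = 0
        · subst hi
          simp only [if_true, zero_add, if_neg (show (1 : ℕ) ≠ 0 by omega), Nat.sub_self]
          rw [h0]; exact hcomm
        · simp only [if_neg hi, if_neg (show i + 1 ≠ 0 by omega)]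
          have h1 : i + 1 - 1 = (i - 1) + 1 := by omega
          rw [h1]
          exact hc _
  intro R hR
  exact key _ R hR rfl

theorem isSolvableSystem_of_hasChain [Finite S] {p : ℕ} [Fact p.Prime] (hS : IsPGroup p S)
    (hF : F.IsSaturated p) (h : HasChain F ⊥) : F.IsSolvableSystem := by
  obtain ⟨n, c, h0, hn, hsc, hmono, hc⟩ := h
  intro R hR hRS _ E hE
  classical
  have hex : ∃ i, ¬ c i ≤ R := by
    refine ⟨n, fun h => hRS ?_⟩
    rw [hn] at h
    exact le_antisymm hR.1 h
  set i := Nat.find hex with hi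
  have hi1 : ¬ c i ≤ R := Nat.find_spec hex
  have hipos : i ≠ 0 := by
    intro h
    rw [h, h0] at hi1
    exact hi1 bot_le
  have hi2 : c (i - 1) ≤ R := by
    by_contra hcon
    have := Nat.find_min' hex hcon
    omega
  have hcomm : ⁅c i, c i⁆ ≤ R := by
    have h1 := hc (i - 1)
    have h2 : i - 1 + 1 = i := by omega
    rw [h2] at h1
    exact h1.trans hi2
  have hEsat := isSaturated_factor hS hF hR hE
  have hsc' := stronglyClosed_image hE (hsc i)
  have hab : ⁅imageAlong (QuotientGroup.mk' (R.subgroupOf S)) (c i),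
      imageAlong (QuotientGroup.mk' (R.subgroupOf S)) (c i)⁆ = ⊥ := by
    rw [eq_bot_iff, Subgroup.commutator_le]
    intro a ha b hb
    obtain ⟨x, hxS, hx, rfl⟩ := mem_imageAlong.1 ha
    obtain ⟨y, hyS, hy, rfl⟩ := mem_imageAlong.1 hb
    rw [Subgroup.mem_bot, ← map_commutatorElement]
    exact (mk'_eq_one_iff _).2 (hcomm (Subgroup.commutator_mem_commutator hx hy))
  have hfin : Finite (⊤ : Subgroup (S ⧸ R.subgroupOf S)) := inferInstance
  have hp : IsPGroup p (⊤ : Subgroup (S ⧸ R.subgroupOf S)) :=
    (hS.to_quotient _).to_subgroup _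
  have hN := isNormal_of_abelian hp hEsat hsc' hab
  intro hcore
  have h1 := IsNormal.le_core hN
  rw [hcore, le_bot_iff] at h1
  apply hi1
  intro x hx
  have hxS := (hsc i).1 hx
  have h2 : QuotientGroup.mk' (R.subgroupOf S) ⟨x, hxS⟩ ∈
      imageAlong (QuotientGroup.mk' (R.subgroupOf S)) (c i) := mem_imageAlong.2 ⟨x, hxS, hx, rfl⟩
  rw [h1, Subgroup.mem_bot] at h2
  exact (mk'_eq_one_iff _).1 h2

/-- A saturated system with a chain of strongly closed subgroups with abelian factors is constrained. -/
theorem isConstrained_of_hasChain [Finite S] {p : ℕ} [Fact p.Prime] (hS : IsPGroup p S)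
    (hF : F.IsSaturated p) (h : HasChain F ⊥) : F.IsConstrained p := by
  refine ⟨hF, F.core, isNormal_core, ?_⟩
  set Q := F.core with hQdef
  have hQ : F.IsNormal Q := isNormal_core
  have hQsc := IsNormal.stronglyClosed hQ
  obtain ⟨n, c, h0, hn, hsc, hmono, hc⟩ := h
  -- `C_S(Q)` is strongly closed
  have hC : F.StronglyClosed (centralizerIn S Q) := by
    refine ⟨inf_le_left, fun R hR φ hφ x => ?_⟩
    obtain ⟨ψ, hψ, h1, h2⟩ := hQ.2 R φ hφ
    refine ⟨(F.le_of_mem hφ).2 x, Subgroup.mem_centralizer_iff.2 ?_⟩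
    intro y hy
    have hy' : y ∈ Q := hy
    rw [← SetLike.ext_iff.1 h2] at hy'
    obtain ⟨z, hz, hzy⟩ := hy'
    rw [← hzy, ← h1 x, ← map_mul, ← map_mul]
    congr 1
    apply Subtype.ext
    exact (Subgroup.mem_centralizer_iff.1 (hR x.2).2) z hz
  have hCQ : centralizerIn S Q ≤ Q := by
    by_contra hcon
    have hex : ∃ i, ¬ centralizerIn S Q ⊓ c i ≤ Q := by
      refine ⟨n, fun h => hcon ?_⟩
      rw [hn] at h
      exact (le_inf le_rfl hC.1).trans h
    classical
    set i := Nat.find hex with hi
    have hi1 : ¬ centralizerIn S Q ⊓ c i ≤ Q := Nat.find_spec hex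
    have hipos : i ≠ 0 := by
      intro h
      rw [h, h0] at hi1
      exact hi1 (by simp)
    have hi2 : centralizerIn S Q ⊓ c (i - 1) ≤ Q := by
      by_contra hcon
      have := Nat.find_min' hex hcon
      omega
    set A := centralizerIn S Q ⊓ c i with hA
    have hAsc : F.StronglyClosed A := StronglyClosed.inf hC (hsc i)
    have hAA : ⁅A, A⁆ ≤ A ⊓ Q := by
      rw [Subgroup.commutator_le]
      intro a ha b hb
      have h1 : ⁅a, b⁆ ∈ A := by
        rw [commutatorElement_def]
        exact mul_mem (mul_mem (mul_mem ha hb) (inv_mem ha)) (inv_mem hb)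
      refine ⟨h1, hi2 ⟨h1.1, ?_⟩⟩
      have h2 := hc (i - 1)
      have h3 : i - 1 + 1 = i := by omega
      rw [h3] at h2
      exact h2 (Subgroup.commutator_mem_commutator ha.2 hb.2)
    have hAQ : ⁅A, A ⊓ Q⁆ = ⊥ := by
      rw [eq_bot_iff, Subgroup.commutator_le]
      intro a ha b hb
      rw [Subgroup.mem_bot, commutatorElement_eq_one_iff_mul_comm]
      exact ((Subgroup.mem_centralizer_iff.1 ha.1.2) b hb.2).symm
    have hAn : F.IsNormal A := by
      refine isNormal_of_chain hS hF 2
        (fun i => if i = 0 then ⊥ else if i = 1 then A ⊓ Q else A) (by simp) (by simp) ?_ ?_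
      · intro j hj
        by_cases h0 : j = 0
        · simp only [h0, if_true]; exact StronglyClosed.bot
        · by_cases h1 : j = 1
          · simp only [if_neg h0, if_pos h1]; exact StronglyClosed.inf hAsc hQsc
          · simp only [if_neg h0, if_neg h1]; exact hAsc
      · intro j hj
        by_cases h0 : j = 0
        · subst h0
          simp [hAQ]
        · have h1 : j = 1 := by omega
          subst h1
          simpa using hAA
    exact hi1 (IsNormal.le_core hAn)
  refine ⟨hQ.1, fun R hR => ?_⟩
  obtain ⟨φ, hφ, hr⟩ := hR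
  have hRQ : R = Q := by
    rw [← hr]
    ext y
    constructor
    · rintro ⟨x, rfl⟩
      exact StronglyClosed.apply_mem hQsc hφ x.2
    · intro hy
      obtain ⟨x, hx, h1⟩ := StronglyClosed.exists_preimage hQsc hφ le_rfl hy
      exact ⟨_, h1⟩
  rw [hRQ]; exact hCQ

end Cfsg.Agent.H759
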